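import Mathlib
import Cfsg.Prelude.Def_Involutions
import Cfsg.Agent.H28.StronglyEmbedded
import Cfsg.Agent.H50.StronglyEmbedded
import Cfsg.Agent.H50.InvolutionCA
import Cfsg.Agent.H21.Complement
import Cfsg.Agent.S1225

/-!
# Groups in which the centraliser of every involution is abelian: basic facts

`S` is a Sylow 2-subgroup which is neither cyclic nor normal.
-/

set_option autoImplicit false

open MulAction

namespace Cfsg.Agent.H7.ACA

variable {G : Type*} [Group G]

/-- Running hypotheses. -/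
structure Hyp (S : Sylow 2 G) : Prop where
  not_cyclic : ¬ IsCyclic (S : Subgroup G)
  not_normal : ¬ (S : Subgroup G).Normal
  abel : ∀ t : G, orderOf t = 2 → IsMulCommutative (Subgroup.centralizer ({t} : Set G))

/-- The centraliser of the Sylow subgroup. -/
abbrev cenS (S : Sylow 2 G) : Subgroup G := Subgroup.centralizer ((S : Subgroup G) : Set G)

/-- The normaliser of the Sylow subgroup. -/
abbrev norS (S : Sylow 2 G) : Subgroup G := Subgroup.normalizer ((S : Subgroup G) : Set G)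

/-- The base point. -/
abbrev base (S : Sylow 2 G) : G ⧸ norS S := ((1 : G) : G ⧸ norS S)

lemma mem_cent_iff {a g : G} : g ∈ Subgroup.centralizer ({a} : Set G) ↔ g * a = a * g :=
  Subgroup.mem_centralizer_singleton_iff

lemma cenS_le_norS (S : Sylow 2 G) : cenS S ≤ norS S := Subgroup.centralizer_le_normalizer _

lemma smul_base_iff {S : Sylow 2 G} {g : G} : g • base S = base S ↔ g ∈ norS S :=
  by rw [base, MulAction.Quotient.smul_coe, smul_eq_mul, mul_one, QuotientGroup.eq, mul_one,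
    Subgroup.inv_mem_iff]

lemma smul_coset_iff {S : Sylow 2 G} {g h : G} :
    g • ((h : G) : G ⧸ norS S) = ((h : G) : G ⧸ norS S) ↔ h⁻¹ * g * h ∈ norS S := by
  rw [MulAction.Quotient.smul_coe, smul_eq_mul, QuotientGroup.eq, mul_inv_rev,
    ← (norS S).inv_mem_iff, mul_inv_rev, mul_inv_rev, inv_inv, inv_inv, mul_assoc]

lemma orderOf_conj' (g a : G) : orderOf (g⁻¹ * a * g) = orderOf a := by
  simpa using H50.orderOf_conj g⁻¹ a

/-- An element of even order has an involution among its powers. -/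
lemma exists_pow_involution [Finite G] {x : G} (hx : Even (orderOf x)) :
    ∃ j : ℕ, orderOf (x ^ j) = 2 := by
  obtain ⟨j, hj⟩ := even_iff_two_dvd.1 hx
  have hpos := orderOf_pos x
  exact ⟨j, by rw [orderOf_pow_of_dvd (by omega) ⟨2, by rw [hj, mul_comm]⟩, hj,
    Nat.mul_div_cancel _ (by omega)]⟩

lemma eq_one_of_sq {x : G} (h : Odd (orderOf x)) (h2 : x * x = 1) : x = 1 :=
  orderOf_eq_one_iff.1 (Nat.eq_one_of_dvd_coprimes (Nat.coprime_two_right.2 h) dvd_rfl
    (orderOf_dvd_of_pow_eq_one (by rw [pow_two, h2])))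

variable [Finite G] {S : Sylow 2 G}

lemma mem_of_pow_eq_one {x : G} (hx : x ∈ norS S) {k : ℕ} (h : x ^ 2 ^ k = 1) : x ∈ S := by
  haveI : Fact (Nat.Prime 2) := ⟨Nat.prime_two⟩
  obtain ⟨j, -, hj⟩ := (Nat.dvd_prime_pow Nat.prime_two).1 (orderOf_dvd_of_pow_eq_one h)
  have hp : IsPGroup 2 (Subgroup.zpowers x) :=
    IsPGroup.of_card (n := j) (by rw [Nat.card_zpowers, hj])
  have hle : Subgroup.zpowers x ⊔ (S : Subgroup G) ≤ S :=
    (S.3 (IsPGroup.to_sup_of_normal_right' hp S.2 (Subgroup.zpowers_le.2 hx)) le_sup_right).le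
  exact hle (Subgroup.mem_sup_left (Subgroup.mem_zpowers x))

lemma inv_mem_S {x : G} (hx : x ∈ norS S) (h2 : orderOf x = 2) : x ∈ S :=
  mem_of_pow_eq_one hx (k := 1) (by rw [pow_one, ← h2, pow_orderOf_eq_one])

variable (h : Hyp S)
include h

lemma Hyp.exists_involution : ∃ t ∈ (S : Subgroup G), orderOf t = 2 := by
  refine H28.exists_involution_of_isPGroup S.2 fun hb => h.not_cyclic ?_
  rw [hb]
  infer_instance

lemma Hyp.comm {a b : G} (ha : a ∈ S) (hb : b ∈ S) : a * b = b * a := by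
  haveI : Fact (Nat.Prime 2) := ⟨Nat.prime_two⟩
  haveI : Nontrivial (S : Subgroup G) := by
    obtain ⟨t, ht, ht2⟩ := h.exists_involution
    exact ⟨⟨⟨t, ht⟩, 1, fun e => by
      rw [show t = 1 from congrArg Subtype.val e, orderOf_one] at ht2; omega⟩⟩
  obtain ⟨z, hz, hz2⟩ :
      ∃ z : (S : Subgroup G), z ∈ Subgroup.center (S : Subgroup G) ∧ orderOf z = 2 := by
    haveI := IsPGroup.center_nontrivial S.2
    have hd : 2 ∣ Nat.card (Subgroup.center (S : Subgroup G)) := by
      obtain ⟨k, hk0, hk⟩ := (IsPGroup.nontrivial_iff_card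
        (S.2.to_subgroup (Subgroup.center (S : Subgroup G)))).1 inferInstance
      rw [hk]; exact dvd_pow_self 2 hk0.ne'
    obtain ⟨z, hz⟩ := exists_prime_orderOf_dvd_card' 2 hd
    exact ⟨z, z.2, by rw [Subgroup.orderOf_coe]; exact hz⟩
  have hle : ∀ x ∈ (S : Subgroup G), x ∈ Subgroup.centralizer ({(z : G)} : Set G) := fun x hx =>
    mem_cent_iff.2 (congrArg Subtype.val (Subgroup.mem_center_iff.1 hz ⟨x, hx⟩))
  haveI := h.abel (z : G) (by rw [Subgroup.orderOf_coe]; exact hz2)
  exact congrArg Subtype.val (mul_comm'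
    (⟨a, hle a ha⟩ : Subgroup.centralizer ({(z : G)} : Set G)) ⟨b, hle b hb⟩)

lemma Hyp.le_cenS : (S : Subgroup G) ≤ cenS S := fun _ hx =>
  Subgroup.mem_centralizer_iff.2 fun _ hy => h.comm hy hx

/-- The centraliser of an involution of `S` is the centraliser of `S`. -/
lemma Hyp.centralizer_eq {t : G} (ht : t ∈ S) (ht2 : orderOf t = 2) :
    Subgroup.centralizer ({t} : Set G) = cenS S := by
  refine le_antisymm (fun x hx => Subgroup.mem_centralizer_iff.2 fun y hy => ?_) fun x hx =>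
    mem_cent_iff.2 (Subgroup.mem_centralizer_iff.1 hx t ht).symm
  haveI := h.abel t ht2
  exact congrArg Subtype.val (mul_comm'
    (⟨y, mem_cent_iff.2 (h.comm hy ht)⟩ : Subgroup.centralizer ({t} : Set G)) ⟨x, hx⟩)

lemma Hyp.mem_cenS_of_commute {t x : G} (ht : t ∈ S) (ht2 : orderOf t = 2) (hx : x * t = t * x) :
    x ∈ cenS S := h.centralizer_eq ht ht2 ▸ mem_cent_iff.2 hx

lemma Hyp.cen_comm {a b : G} (ha : a ∈ cenS S) (hb : b ∈ cenS S) : a * b = b * a := by
  obtain ⟨t, ht, ht2⟩ := h.exists_involution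
  haveI := h.abel t ht2
  rw [← h.centralizer_eq ht ht2] at ha hb
  exact congrArg Subtype.val
    (mul_comm' (⟨a, ha⟩ : Subgroup.centralizer ({t} : Set G)) ⟨b, hb⟩)

/-- An element conjugating an involution of `S` into `S` normalises `S`. -/
lemma Hyp.mem_norS {t g : G} (ht : t ∈ S) (ht2 : orderOf t = 2) (hg : g⁻¹ * t * g ∈ S) :
    g ∈ norS S := by
  have hg2 : orderOf (g⁻¹ * t * g) = 2 := by rw [orderOf_conj', ht2]
  have key : ∀ y : G, y ∈ cenS S ↔ g⁻¹ * y * g ∈ cenS S := by
    intro y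
    conv_lhs => rw [← h.centralizer_eq ht ht2]
    conv_rhs => rw [← h.centralizer_eq hg hg2]
    rw [mem_cent_iff, mem_cent_iff]
    constructor
    · intro e
      calc g⁻¹ * y * g * (g⁻¹ * t * g) = g⁻¹ * (y * t) * g := by group
        _ = g⁻¹ * (t * y) * g := by rw [e]
        _ = g⁻¹ * t * g * (g⁻¹ * y * g) := by group
    · intro e
      calc y * t = g * (g⁻¹ * y * g * (g⁻¹ * t * g)) * g⁻¹ := by group
        _ = g * (g⁻¹ * t * g * (g⁻¹ * y * g)) * g⁻¹ := by rw [e]
        _ = t * y := by group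
  refine Subgroup.mem_normalizer_iff''.2 fun y => ?_
  constructor
  · intro hy
    obtain ⟨k, hk⟩ := S.2 ⟨y, hy⟩
    refine mem_of_pow_eq_one (cenS_le_norS S ((key y).1 (h.le_cenS hy))) (k := k) ?_
    have hk' : y ^ 2 ^ k = 1 := congrArg Subtype.val hk
    have := conj_pow (a := g⁻¹) (b := y) (i := 2 ^ k)
    rw [inv_inv] at this
    rw [this, hk']
    group
  · intro hy
    obtain ⟨k, hk⟩ := S.2 ⟨_, hy⟩
    refine mem_of_pow_eq_one (cenS_le_norS S ((key y).2 (h.le_cenS hy))) (k := k) ?_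
    have hk' : (g⁻¹ * y * g) ^ 2 ^ k = 1 := congrArg Subtype.val hk
    rw [show y = g * (g⁻¹ * y * g) * g⁻¹ by group, conj_pow, hk']
    group

/-- The Sylow normaliser is strongly embedded. -/
lemma Hyp.stronglyEmbedded : Cfsg.IsStronglyEmbedded (norS S) := by
  have htop : norS S ≠ ⊤ := fun e => h.not_normal (Subgroup.normalizer_eq_top_iff.1 e)
  obtain ⟨t₀, ht₀, ht₀2⟩ := h.exists_involution
  have heven : Even (Nat.card (norS S)) :=
    even_iff_two_dvd.2 (ht₀2 ▸ Subgroup.orderOf_dvd_natCard _ (Subgroup.le_normalizer ht₀))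
  rw [H28.isStronglyEmbedded_iff_mem htop heven]
  intro t ht ht2 g hg
  exact h.mem_norS (inv_mem_S ht ht2) ht2 (inv_mem_S hg (by rw [orderOf_conj', ht2]))

lemma Hyp.exists_outside : ∃ u : G, orderOf u = 2 ∧ u ∉ norS S := by
  obtain ⟨t, ht, ht2⟩ := h.exists_involution
  obtain ⟨g, -, hg⟩ := SetLike.exists_of_lt (lt_top_iff_ne_top.2 h.stronglyEmbedded.1)
  refine ⟨g * t * g⁻¹, by rw [H50.orderOf_conj, ht2], fun hu => hg ?_⟩
  have := H28.mem_of_isStronglyEmbedded h.stronglyEmbedded hu (by rw [H50.orderOf_conj, ht2])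
    (g := g) (by rw [show g⁻¹ * (g * t * g⁻¹) * g = t by group]; exact Subgroup.le_normalizer ht)
  exact this

/-- Every involution is conjugate to any given involution of `S`. -/
lemma Hyp.exists_conj {t v : G} (ht2 : orderOf t = 2) (hv : orderOf v = 2) :
    ∃ g : G, g * t * g⁻¹ = v :=
  isConj_iff.1 (H50.se_isConj h.stronglyEmbedded ht2 hv)

/-- A subgroup containing the centraliser of `S` and all involutions is everything. -/
lemma Hyp.eq_top_of_le {Y : Subgroup G} (hA : cenS S ≤ Y) (hY : ∀ v : G, orderOf v = 2 → v ∈ Y) :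
    Y = ⊤ := by
  obtain ⟨t, ht, ht2⟩ := h.exists_involution
  obtain ⟨u, hu, huN⟩ := h.exists_outside
  have hSY : (S : Subgroup G) ≤ Y := h.le_cenS.trans hA
  have hne : (norS S).subgroupOf Y ≠ ⊤ := fun e => huN (by
    have : (⟨u, hY u hu⟩ : Y) ∈ (norS S).subgroupOf Y := e ▸ Subgroup.mem_top _
    exact this)
  have heven : Even (Nat.card ((norS S).subgroupOf Y)) := by
    refine even_iff_two_dvd.2 ?_
    have := Subgroup.orderOf_dvd_natCard ((norS S).subgroupOf Y)
      (show (⟨t, hSY ht⟩ : Y) ∈ (norS S).subgroupOf Y from Subgroup.le_normalizer ht)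
    rwa [Subgroup.orderOf_mk, ht2] at this
  have hSE : Cfsg.IsStronglyEmbedded ((norS S).subgroupOf Y) := by
    rw [H28.isStronglyEmbedded_iff_mem hne heven]
    intro s hs hs2 g hg
    exact H28.mem_of_isStronglyEmbedded h.stronglyEmbedded (t := (s : G)) (g := (g : G)) hs
      (by rw [Subgroup.orderOf_coe, hs2]) hg
  refine eq_top_iff.2 fun g _ => ?_
  have hv : orderOf (g * t * g⁻¹) = 2 := by rw [H50.orderOf_conj, ht2]
  obtain ⟨y, hy⟩ := isConj_iff.1 (H50.se_isConj hSE (a := (⟨t, hSY ht⟩ : Y))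
    (b := ⟨g * t * g⁻¹, hY _ hv⟩) (by rw [Subgroup.orderOf_mk, ht2])
    (by rw [Subgroup.orderOf_mk, hv]))
  have hy' : (y : G) * t * (y : G)⁻¹ = g * t * g⁻¹ := congrArg Subtype.val hy
  have hmem : (y : G)⁻¹ * g ∈ cenS S := h.mem_cenS_of_commute ht ht2 (by
    calc (y : G)⁻¹ * g * t = (y : G)⁻¹ * (g * t * g⁻¹) * g := by group
      _ = (y : G)⁻¹ * ((y : G) * t * (y : G)⁻¹) * g := by rw [hy']
      _ = t * ((y : G)⁻¹ * g) := by group)
  simpa using Y.mul_mem y.2 (hA hmem)

/-- The kernel of the action on the points is central. -/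
lemma Hyp.mem_center_of_fix {g : G} (hg : ∀ p : G ⧸ norS S, g • p = p) :
    g ∈ Subgroup.center G := by
  set C : Subgroup G := (norS S).normalCore
  have hgC : g ∈ C := by
    intro b
    simpa using (smul_coset_iff (h := b⁻¹)).1 (hg _)
  obtain ⟨u, hu, huN⟩ := h.exists_outside
  have hCA : C ≤ cenS S := by
    intro c hc
    refine Subgroup.mem_centralizer_iff.2 fun s hs => ?_
    have hcN : c ∈ norS S := Subgroup.normalCore_le _ hc
    have h1 : c * s * c⁻¹ * s⁻¹ ∈ S :=
      mul_mem ((Subgroup.mem_normalizer_iff.1 hcN s).1 hs) (inv_mem hs)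
    have h2 : c * s * c⁻¹ * s⁻¹ ∈ C := by
      rw [show c * s * c⁻¹ * s⁻¹ = c * (s * c⁻¹ * s⁻¹) by group]
      exact mul_mem hc ((Subgroup.normalCore_normal _).conj_mem _ (inv_mem hc) s)
    by_contra hne
    have hne1 : c * s * c⁻¹ * s⁻¹ ≠ 1 := fun e => hne (by
      rw [mul_inv_eq_one, mul_inv_eq_iff_eq_mul] at e
      exact e.symm)
    obtain ⟨k, hk⟩ := S.2 ⟨_, h1⟩
    have hk' : (c * s * c⁻¹ * s⁻¹) ^ 2 ^ k = 1 := congrArg Subtype.val hk
    obtain ⟨j, -, hj⟩ := (Nat.dvd_prime_pow Nat.prime_two).1 (orderOf_dvd_of_pow_eq_one hk')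
    have hj0 : j ≠ 0 := fun e => hne1 (orderOf_eq_one_iff.1 (by rw [hj, e, pow_zero]))
    obtain ⟨m, hm⟩ := exists_pow_involution (x := c * s * c⁻¹ * s⁻¹)
      (by rw [hj]; exact Nat.even_pow.2 ⟨even_two, hj0⟩)
    -- an involution fixing every point
    have hfix : ∀ p : G ⧸ norS S, (c * s * c⁻¹ * s⁻¹) ^ m • p = p := fun p => by
      induction p using QuotientGroup.induction_on with
      | H b =>
        refine smul_coset_iff.2 ?_
        simpa using (pow_mem h2 m : (c * s * c⁻¹ * s⁻¹) ^ m ∈ C) b⁻¹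
    exact huN (smul_base_iff.1
      (H50.se_fix_unique h.stronglyEmbedded hm (hfix (base S)) (hfix (u • base S))).symm)
  have key : Subgroup.centralizer (C : Set G) = ⊤ := by
    refine h.eq_top_of_le (fun a ha => Subgroup.mem_centralizer_iff.2 fun c hc =>
      h.cen_comm (hCA hc) ha) fun v hv => ?_
    obtain ⟨t, ht, ht2⟩ := h.exists_involution
    obtain ⟨x, rfl⟩ := h.exists_conj ht2 hv
    refine Subgroup.mem_centralizer_iff.2 fun c hc => ?_
    have hc' : x⁻¹ * c * x ∈ cenS S := hCA (by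
      simpa using (Subgroup.normalCore_normal (norS S)).conj_mem c hc x⁻¹)
    have e := h.cen_comm hc' (h.le_cenS ht)
    calc c * (x * t * x⁻¹) = x * (x⁻¹ * c * x * t) * x⁻¹ := by group
      _ = x * (t * (x⁻¹ * c * x)) * x⁻¹ := by rw [e]
      _ = x * t * x⁻¹ * c := by group
  refine Subgroup.mem_center_iff.2 fun x => ?_
  have hx : x ∈ Subgroup.centralizer (C : Set G) := key ▸ Subgroup.mem_top x
  exact (Subgroup.mem_centralizer_iff.1 hx g hgC).symm

/-- Central elements lie in the centraliser of `S` and have odd order. -/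
lemma Hyp.center_spec {z : G} (hz : z ∈ Subgroup.center G) :
    z ∈ cenS S ∧ Odd (orderOf z) := by
  refine ⟨Subgroup.center_le_centralizer _ hz, ?_⟩
  by_contra hev
  obtain ⟨j, hj⟩ := exists_pow_involution (Nat.not_odd_iff_even.1 hev)
  obtain ⟨u, hu, huN⟩ := h.exists_outside
  have hc : z ^ j ∈ Subgroup.center G := pow_mem hz j
  refine huN (H28.mem_of_isStronglyEmbedded h.stronglyEmbedded (t := z ^ j)
    (cenS_le_norS S (Subgroup.center_le_centralizer _ hc)) hj ?_)
  rw [mul_assoc, ← Subgroup.mem_center_iff.1 hc u, inv_mul_cancel_left]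
  exact cenS_le_norS S (Subgroup.center_le_centralizer _ hc)

/-- The involutions of `N(S)`. -/
abbrev Hyp.invs (_h : Hyp S) : Type _ := {t : G // orderOf t = 2 ∧ t ∈ norS S}

lemma Hyp.invs_mem (t : h.invs) : t.1 ∈ S := inv_mem_S t.2.2 t.2.1

/-- `S` has at least three involutions and their number is odd. -/
lemma Hyp.invs_card : 3 ≤ Nat.card h.invs ∧ Odd (Nat.card h.invs) := by
  classical
  haveI : Fact (Nat.Prime 2) := ⟨Nat.prime_two⟩
  haveI : IsMulCommutative (S : Subgroup G) := ⟨⟨fun a b => Subtype.ext (h.comm a.2 b.2)⟩⟩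
  let E : Subgroup G :=
    { carrier := {x | x ∈ S ∧ x * x = 1}
      one_mem' := ⟨one_mem _, one_mul 1⟩
      mul_mem' := fun {a b} ha hb => ⟨mul_mem ha.1 hb.1, by
        calc a * b * (a * b) = a * (b * a) * b := by group
          _ = a * (a * b) * b := by rw [h.comm hb.1 ha.1]
          _ = a * a * (b * b) := by group
          _ = 1 := by rw [ha.2, hb.2, one_mul]⟩
      inv_mem' := fun {a} ha => ⟨inv_mem ha.1, by rw [← mul_inv_rev, ha.2, inv_one]⟩ }
  haveI : Fintype E := Fintype.ofFinite _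
  have e : h.invs ≃ {a : E // a ≠ 1} :=
    { toFun := fun t => ⟨⟨t.1, h.invs_mem t, H50.inv_mul_self t.2.1⟩, fun e => by
        have h1 := t.2.1
        rw [show t.1 = 1 from congrArg Subtype.val e, orderOf_one] at h1
        omega⟩
      invFun := fun a => ⟨a.1.1, H50.orderOf_eq_two a.1.2.2 (fun e => a.2 (Subtype.ext e)),
        Subgroup.le_normalizer a.1.2.1⟩
      left_inv := fun _ => rfl
      right_inv := fun _ => rfl }
  have hE : Nat.card h.invs = Nat.card E - 1 := by
    rw [Nat.card_congr e, Nat.card_eq_fintype_card, Fintype.card_subtype_compl,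
      Fintype.card_subtype_eq, Nat.card_eq_fintype_card]
  have hEp : IsPGroup 2 E := fun x => ⟨1, Subtype.ext (by
    rw [pow_one, pow_two]; exact x.2.2)⟩
  obtain ⟨n, hn⟩ := IsPGroup.iff_card.1 hEp
  have hn2 : 2 ≤ n := by
    by_contra hlt
    refine h.not_cyclic (H21.isCyclic_of_comm_unique S.2 fun H L hH hL => ?_)
    have hsub : ∀ {H : Subgroup (S : Subgroup G)}, Nat.card H = 2 →
        H.map (S : Subgroup G).subtype = E := by
      intro H hH
      refine Subgroup.eq_of_le_of_card_ge ?_ ?_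
      · rintro _ ⟨x, hx, rfl⟩
        refine ⟨x.2, ?_⟩
        have h1 : (⟨x, hx⟩ : H) ^ 2 = 1 :=
          orderOf_dvd_iff_pow_eq_one.1 ((orderOf_dvd_natCard _).trans hH.dvd)
        simpa [pow_two] using congrArg (fun y : H => ((y : (S : Subgroup G)) : G)) h1
      · rw [← Nat.card_congr (H.equivMapOfInjective _ (Subgroup.subtype_injective _)).toEquiv,
          hH, hn]
        exact le_trans (Nat.pow_le_pow_right two_pos (by omega : n ≤ 1)) (by norm_num)
    exact Subgroup.map_injective (Subgroup.subtype_injective _) ((hsub hH).trans (hsub hL).symm)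
  have h4 : 2 ^ 2 ≤ 2 ^ n := Nat.pow_le_pow_right two_pos hn2
  refine ⟨by rw [hE, hn]; norm_num at h4; omega, ?_⟩
  rw [hE, hn, Nat.odd_iff]
  have : 2 ∣ 2 ^ n := dvd_pow_self 2 (by omega)
  omega

/-- `|N(S)| = |C(S)| * i`. -/
lemma Hyp.card_norS : Nat.card (norS S) = Nat.card (cenS S) * Nat.card h.invs := by
  classical
  obtain ⟨t, ht, ht2⟩ := h.exists_involution
  let f : norS S → h.invs := fun g => ⟨g.1 * t * g.1⁻¹, by rw [H50.orderOf_conj, ht2],
    mul_mem (mul_mem g.2 (Subgroup.le_normalizer ht)) (inv_mem g.2)⟩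
  have hf : ∀ u : h.invs, Nat.card {g : norS S // f g = u} = Nat.card (cenS S) := by
    rintro ⟨v, hv, hvN⟩
    obtain ⟨c, hc⟩ := h.exists_conj ht2 hv
    have hcN : c ∈ norS S := by
      refine H28.mem_of_isStronglyEmbedded h.stronglyEmbedded hvN hv ?_
      rw [← hc, show c⁻¹ * (c * t * c⁻¹) * c = t by group]
      exact Subgroup.le_normalizer ht
    refine Nat.card_congr
      { toFun := fun g => ⟨c⁻¹ * g.1.1, h.mem_cenS_of_commute ht ht2 ?_⟩
        invFun := fun x => ⟨⟨c * x.1, mul_mem hcN (cenS_le_norS S x.2)⟩, Subtype.ext ?_⟩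
        left_inv := fun g => by simp
        right_inv := fun x => by simp }
    · have h1 : g.1.1 * t * g.1.1⁻¹ = v := congrArg Subtype.val g.2
      calc c⁻¹ * g.1.1 * t = c⁻¹ * (g.1.1 * t * g.1.1⁻¹) * g.1.1 := by group
        _ = c⁻¹ * (c * t * c⁻¹) * g.1.1 := by rw [h1, hc]
        _ = t * (c⁻¹ * g.1.1) := by group
    · show c * x.1 * t * (c * x.1)⁻¹ = v
      rw [mul_assoc c, (Subgroup.mem_centralizer_iff.1 x.2 t ht).symm, ← hc]
      group
  haveI := Fintype.ofFinite h.invs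
  rw [← Nat.card_congr (Equiv.sigmaFiberEquiv f), Nat.card_sigma,
    Finset.sum_congr rfl fun u _ => hf u, Finset.sum_const, smul_eq_mul, Finset.card_univ,
    ← Nat.card_eq_fintype_card, mul_comm]

end Cfsg.Agent.H7.ACA
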