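import Mathlib
import Cfsg.Agent.H7.AbelianCA.Basic

/-!
# The centraliser of `S` acts freely on the other points

`Tight` says that the centralisers of odd elements of `C(S)` stay inside `N(S)`.
-/

set_option autoImplicit false

open MulAction

namespace Cfsg.Agent.H7.ACA

variable {G : Type*} [Group G]

/-- Centralisers of non-trivial odd elements of `C(S)` lie in `N(S)`. -/
def Tight (S : Sylow 2 G) : Prop :=
  ∀ o ∈ cenS S, o ≠ 1 → Odd (orderOf o) → Subgroup.centralizer ({o} : Set G) ≤ norS S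

/-- The two-point stabiliser. -/
abbrev two (S : Sylow 2 G) (p : G ⧸ norS S) : Subgroup G :=
  stabilizer G (base S) ⊓ stabilizer G p

lemma conj_mem_cenS {S : Sylow 2 G} {d a : G} (hd : d ∈ norS S) (ha : a ∈ cenS S) :
    d * a * d⁻¹ ∈ cenS S := by
  refine Subgroup.mem_centralizer_iff.2 fun s hs => ?_
  have h1 : d⁻¹ * s * d ∈ (S : Subgroup G) := (Subgroup.mem_normalizer_iff''.1 hd s).1 hs
  have e := Subgroup.mem_centralizer_iff.1 ha _ h1
  calc s * (d * a * d⁻¹) = d * (d⁻¹ * s * d * a) * d⁻¹ := by group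
    _ = d * (a * (d⁻¹ * s * d)) * d⁻¹ := by rw [e]
    _ = d * a * d⁻¹ * s := by group

lemma mem_two {S : Sylow 2 G} {p : G ⧸ norS S} {d : G} :
    d ∈ two S p ↔ d • base S = base S ∧ d • p = p := Iff.rfl

variable [Finite G] {S : Sylow 2 G} (h : Hyp S)

lemma two_le_norS {p : G ⧸ norS S} {d : G} (hd : d ∈ two S p) : d ∈ norS S :=
  smul_base_iff.1 hd.1

include h

/-- `C(S)` is a trivial-intersection subgroup. -/
lemma Hyp.ti (hT : Tight S) {a g : G} (ha : a ∈ cenS S) (ha1 : a ≠ 1)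
    (hg : g⁻¹ * a * g ∈ cenS S) : g ∈ norS S := by
  rcases Nat.even_or_odd (orderOf a) with hev | hod
  · obtain ⟨j, hj⟩ := exists_pow_involution hev
    refine H28.mem_of_isStronglyEmbedded h.stronglyEmbedded (cenS_le_norS S (pow_mem ha j)) hj ?_
    have := conj_pow (a := g⁻¹) (b := a) (i := j)
    rw [inv_inv] at this
    rw [← this]
    exact cenS_le_norS S (pow_mem hg j)
  · obtain ⟨t, ht, ht2⟩ := h.exists_involution
    have e := Subgroup.mem_centralizer_iff.1 hg t ht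
    have h1 : g * t * g⁻¹ ∈ norS S := hT a ha ha1 hod (mem_cent_iff.2 (by
      calc g * t * g⁻¹ * a = g * (t * (g⁻¹ * a * g)) * g⁻¹ := by group
        _ = g * (g⁻¹ * a * g * t) * g⁻¹ := by rw [e]
        _ = a * (g * t * g⁻¹) := by group))
    refine H28.mem_of_isStronglyEmbedded h.stronglyEmbedded h1 (by rw [H50.orderOf_conj, ht2]) ?_
    rw [show g⁻¹ * (g * t * g⁻¹) * g = t by group]
    exact Subgroup.le_normalizer ht

/-- The involutions exchanging the base point with `p`. -/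
abbrev Hyp.swaps (_h : Hyp S) (p : G ⧸ norS S) : Type _ :=
  {u : G // orderOf u = 2 ∧ u • base S = p}

lemma Hyp.swaps_card {p : G ⧸ norS S} (hp : p ≠ base S) :
    Nat.card (h.swaps p) = Nat.card h.invs :=
  H50.se_card_swap h.stronglyEmbedded hp.symm

lemma Hyp.swaps_back {p : G ⧸ norS S} (u : h.swaps p) : u.1 • p = base S :=
  H50.smul_swap u.2.1 u.2.2

lemma Hyp.swaps_not_mem {p : G ⧸ norS S} (hp : p ≠ base S) (u : h.swaps p) : u.1 ∉ norS S :=
  fun hu => hp (u.2.2.symm.trans (smul_base_iff.2 hu))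

lemma Hyp.exists_swap {p : G ⧸ norS S} (hp : p ≠ base S) : Nonempty (h.swaps p) := by
  refine (Nat.card_pos_iff.1 ?_).1
  rw [h.swaps_card hp]
  have := h.invs_card.1
  omega

lemma Hyp.swap_conj_mem {p : G ⧸ norS S} (u : h.swaps p) {d : G} (hd : d ∈ two S p) :
    u.1 * d * u.1 ∈ two S p := by
  refine mem_two.2 ⟨?_, ?_⟩
  · rw [mul_smul, mul_smul, u.2.2, hd.2, h.swaps_back u]
  · rw [mul_smul, mul_smul, h.swaps_back u, hd.1, u.2.2]

lemma Hyp.two_odd {p : G ⧸ norS S} (hp : p ≠ base S) {d : G} (hd : d ∈ two S p) :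
    Odd (orderOf d) :=
  H50.se_odd_of_two_fixed h.stronglyEmbedded hp.symm hd.1 hd.2

/-- The two-point stabiliser is transitive on the involutions of `N(S)`. -/
lemma Hyp.card_two {p : G ⧸ norS S} (hp : p ≠ base S) :
    Nat.card (two S p) = Nat.card h.invs * Nat.card (cenS S ⊓ two S p : Subgroup G) := by
  classical
  obtain ⟨u⟩ := h.exists_swap hp
  obtain ⟨t, ht, ht2⟩ := h.exists_involution
  let f : two S p → h.invs := fun g => ⟨g.1 * t * g.1⁻¹, by rw [H50.orderOf_conj, ht2],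
    mul_mem (mul_mem (two_le_norS g.2) (Subgroup.le_normalizer ht))
      (inv_mem (two_le_norS g.2))⟩
  have hf : ∀ v : h.invs,
      Nat.card {g : two S p // f g = v} = Nat.card (cenS S ⊓ two S p : Subgroup G) := by
    rintro ⟨v, hv, hvN⟩
    obtain ⟨c, hc, hct⟩ := (S1225.result (norS S) h.stronglyEmbedded u.1 u.2.1
      (h.swaps_not_mem hp u) t v ht2 (Subgroup.le_normalizer ht) hv hvN).1
    have hc' : c ∈ two S p := by
      rw [Subgroup.mem_inf, H50.mem_map_conj, H50.inv_eq_self u.2.1] at hc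
      refine mem_two.2 ⟨smul_base_iff.2 hc.1, ?_⟩
      rw [← u.2.2, eq_comm]
      calc u.1 • base S = u.1 • (u.1 * c * u.1) • base S := by rw [smul_base_iff.2 hc.2]
        _ = c • u.1 • base S := by
          rw [smul_smul, smul_smul, ← mul_assoc, ← mul_assoc, H50.inv_mul_self u.2.1, one_mul]
    refine Nat.card_congr
      { toFun := fun g => ⟨c⁻¹ * g.1.1, Subgroup.mem_inf.2 ⟨h.mem_cenS_of_commute ht ht2 ?_,
          mul_mem (inv_mem hc') g.1.2⟩⟩
        invFun := fun x => ⟨⟨c * x.1, mul_mem hc' x.2.2⟩, Subtype.ext ?_⟩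
        left_inv := fun g => by simp
        right_inv := fun x => by simp }
    · have h1 : g.1.1 * t * g.1.1⁻¹ = v := congrArg Subtype.val g.2
      calc c⁻¹ * g.1.1 * t = c⁻¹ * (g.1.1 * t * g.1.1⁻¹) * g.1.1 := by group
        _ = c⁻¹ * (c * t * c⁻¹) * g.1.1 := by rw [h1, hct]
        _ = t * (c⁻¹ * g.1.1) := by group
    · show c * x.1 * t * (c * x.1)⁻¹ = v
      rw [mul_assoc c, (Subgroup.mem_centralizer_iff.1 x.2.1 t ht).symm, ← hct]
      group
  haveI := Fintype.ofFinite h.invs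
  rw [← Nat.card_congr (Equiv.sigmaFiberEquiv f), Nat.card_sigma,
    Finset.sum_congr rfl fun v _ => hf v, Finset.sum_const, smul_eq_mul, Finset.card_univ,
    ← Nat.card_eq_fintype_card]

/-- The centraliser in the two-point stabiliser of an exchanging involution. -/
lemma Hyp.card_cent_swap {p : G ⧸ norS S} (hp : p ≠ base S) (u : h.swaps p) :
    Nat.card (two S p ⊓ Subgroup.centralizer ({u.1} : Set G) : Subgroup G) =
      Nat.card (cenS S ⊓ two S p : Subgroup G) := by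
  classical
  let f : two S p → h.swaps p := fun d => ⟨d.1 * u.1 * d.1⁻¹,
    by rw [H50.orderOf_conj, u.2.1], by
      rw [mul_smul, mul_smul, (inv_smul_eq_iff.2 d.2.1.symm), u.2.2, d.2.2]⟩
  have hf : ∀ v : h.swaps p, Nat.card {d : two S p // f d = v} =
      Nat.card (two S p ⊓ Subgroup.centralizer ({u.1} : Set G) : Subgroup G) := by
    intro v
    have huv : u.1 * v.1 ∈ two S p := by
      refine mem_two.2 ⟨?_, ?_⟩
      · rw [mul_smul, v.2.2, h.swaps_back u]
      · rw [mul_smul, h.swaps_back v, u.2.2]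
    obtain ⟨m, hm⟩ := H50.exists_conj_of_odd u.2.1 v.2.1 (h.two_odd hp huv)
    set c := (u.1 * v.1) ^ m
    have hc : c ∈ two S p := pow_mem huv m
    refine Nat.card_congr
      { toFun := fun g => ⟨c⁻¹ * g.1.1, Subgroup.mem_inf.2 ⟨mul_mem (inv_mem hc) g.1.2, mem_cent_iff.2 ?_⟩⟩
        invFun := fun x => ⟨⟨c * x.1, mul_mem hc x.2.1⟩, Subtype.ext ?_⟩
        left_inv := fun g => by simp
        right_inv := fun x => by simp }
    · have h1 : g.1.1 * u.1 * g.1.1⁻¹ = v.1 := congrArg Subtype.val g.2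
      calc c⁻¹ * g.1.1 * u.1 = c⁻¹ * (g.1.1 * u.1 * g.1.1⁻¹) * g.1.1 := by group
        _ = c⁻¹ * (c * u.1 * c⁻¹) * g.1.1 := by rw [h1, hm]
        _ = u.1 * (c⁻¹ * g.1.1) := by group
    · show c * x.1 * u.1 * (c * x.1)⁻¹ = v.1
      rw [mul_assoc c, mem_cent_iff.1 x.2.2, ← hm]
      group
  haveI := Fintype.ofFinite (h.swaps p)
  have key : Nat.card (two S p) = Nat.card h.invs *
      Nat.card (two S p ⊓ Subgroup.centralizer ({u.1} : Set G) : Subgroup G) := by
    rw [← Nat.card_congr (Equiv.sigmaFiberEquiv f), Nat.card_sigma,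
      Finset.sum_congr rfl fun v _ => hf v, Finset.sum_const, smul_eq_mul, Finset.card_univ,
      ← Nat.card_eq_fintype_card, h.swaps_card hp]
  rw [h.card_two hp] at key
  exact (Nat.eq_of_mul_eq_mul_left (by have := h.invs_card.1; omega) key).symm

/-- `C(S)` acts freely on the points other than the base point. -/
lemma Hyp.free (hT : Tight S) {p : G ⧸ norS S} (hp : p ≠ base S) {a : G} (ha : a ∈ cenS S)
    (hap : a • p = p) : a = 1 := by
  classical
  obtain ⟨u⟩ := h.exists_swap hp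
  set D := two S p with hD
  set D0 : Subgroup G := cenS S ⊓ D with hD0
  set r := Nat.card D0 with hr
  have hu2 := u.2.1
  have huu : u.1 * u.1 = 1 := H50.inv_mul_self hu2
  let D1 : Subgroup G := D0.map (MulAut.conj u.1).toMonoidHom
  have hD1 : ∀ x, x ∈ D1 ↔ u.1 * x * u.1 ∈ D0 := fun x => by
    rw [H50.mem_map_conj, H50.inv_eq_self hu2]
  have hD1D : ∀ x ∈ D1, x ∈ D := fun x hx => by
    have h1 := h.swap_conj_mem u ((hD1 x).1 hx).2
    rwa [show u.1 * (u.1 * x * u.1) * u.1 = u.1 * u.1 * x * (u.1 * u.1) by group, huu, one_mul,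
      mul_one] at h1
  have hinter : ∀ x ∈ D0, x ∈ D1 → x = 1 := fun x hx hx1 => by
    by_contra hne
    refine h.swaps_not_mem hp u (h.ti hT hx.1 hne ?_)
    rw [H50.inv_eq_self hu2]
    exact ((hD1 x).1 hx1).1
  have hn0 : ∀ d ∈ D, ∀ x ∈ D0, d * x * d⁻¹ ∈ D0 := fun d hd x hx =>
    Subgroup.mem_inf.2 ⟨conj_mem_cenS (two_le_norS hd) hx.1, mul_mem (mul_mem hd hx.2) (inv_mem hd)⟩
  have hn1 : ∀ d ∈ D, ∀ x ∈ D1, d * x * d⁻¹ ∈ D1 := fun d hd x hx => by
    rw [hD1, show u.1 * (d * x * d⁻¹) * u.1 =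
      (u.1 * d * u.1) * (u.1 * x * u.1) * (u.1 * d * u.1)⁻¹ from ?_]
    · exact hn0 _ (h.swap_conj_mem u hd) _ ((hD1 x).1 hx)
    · rw [mul_inv_rev, mul_inv_rev, H50.inv_eq_self hu2,
        show (u.1 * d * u.1) * (u.1 * x * u.1) * (u.1 * (d⁻¹ * u.1)) =
          u.1 * d * (u.1 * u.1) * x * (u.1 * u.1) * d⁻¹ * u.1 by group, huu, mul_one, mul_one]
      group
  have hcomm : ∀ (x : D0) (y : D1), Commute (D0.subtype x) (D1.subtype y) := fun x y => by
    show x.1 * y.1 = y.1 * x.1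
    have h0 : x.1 * y.1 * x.1⁻¹ * y.1⁻¹ ∈ D0 := by
      rw [show x.1 * y.1 * x.1⁻¹ * y.1⁻¹ = x.1 * (y.1 * x.1⁻¹ * y.1⁻¹) by group]
      exact mul_mem x.2 (hn0 _ (hD1D _ y.2) _ (inv_mem x.2))
    have h1 : x.1 * y.1 * x.1⁻¹ * y.1⁻¹ ∈ D1 :=
      mul_mem (hn1 _ x.2.2 _ y.2) (inv_mem y.2)
    have := hinter _ h0 h1
    rw [mul_inv_eq_one, mul_inv_eq_iff_eq_mul] at this
    exact this
  let φ := D0.subtype.noncommCoprod D1.subtype hcomm
  have hφ : ∀ x : D0 × D1, φ x = x.1.1 * x.2.1 := fun x => rfl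
  have hφinj : Function.Injective φ := by
    rw [injective_iff_map_eq_one]
    intro x hx
    rw [hφ] at hx
    have hx1 : x.1.1 ∈ D1 := by
      rw [eq_inv_of_mul_eq_one_left hx]
      exact inv_mem x.2.2
    have e := hinter _ x.1.2 hx1
    rw [e, one_mul] at hx
    exact Prod.ext (Subtype.ext e) (Subtype.ext hx)
  set R : Subgroup G := φ.range with hR
  have hRD : R ≤ D := by
    rintro _ ⟨x, rfl⟩
    rw [hφ]
    exact mul_mem x.1.2.2 (hD1D _ x.2.2)
  have hD1card : Nat.card D1 = r :=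
    (Nat.card_congr (D0.equivMapOfInjective _ (MulAut.conj u.1).injective).toEquiv).symm
  have hRcard : Nat.card R = r * r := by
    rw [hR, ← Nat.card_congr (MonoidHom.ofInjective hφinj).toEquiv, Nat.card_prod, hD1card]
  have hrpos : 0 < r := Nat.card_pos
  have hri : r ∣ Nat.card h.invs := by
    have := Subgroup.card_dvd_of_le hRD
    rw [hRcard, h.card_two hp] at this
    exact (Nat.mul_dvd_mul_iff_right hrpos).1 this
  -- the centraliser of `u` in `D`
  let g : D0 → (D ⊓ Subgroup.centralizer ({u.1} : Set G) : Subgroup G) := fun x =>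
    ⟨x.1 * (u.1 * x.1 * u.1), Subgroup.mem_inf.2 ⟨mul_mem x.2.2 (h.swap_conj_mem u x.2.2), mem_cent_iff.2 (by
      have h1 : u.1 * x.1 * u.1 ∈ D1 := by
        rw [hD1, show u.1 * (u.1 * x.1 * u.1) * u.1 = (u.1 * u.1) * x.1 * (u.1 * u.1) by group,
          huu, one_mul, mul_one]
        exact x.2
      have e : x.1 * (u.1 * x.1 * u.1) = u.1 * x.1 * u.1 * x.1 := hcomm x ⟨_, h1⟩
      calc x.1 * (u.1 * x.1 * u.1) * u.1 = x.1 * u.1 * x.1 * (u.1 * u.1) := by group
        _ = (u.1 * u.1) * x.1 * u.1 * x.1 := by rw [huu, mul_one, one_mul]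
        _ = u.1 * (u.1 * x.1 * u.1 * x.1) := by group
        _ = u.1 * (x.1 * (u.1 * x.1 * u.1)) := by rw [e])⟩⟩
  have hginj : Function.Injective g := fun x y e => by
    have e' : x.1 * (u.1 * x.1 * u.1) = y.1 * (u.1 * y.1 * u.1) := congrArg Subtype.val e
    have hmem : ∀ z : D0, u.1 * z.1 * u.1 ∈ D1 := fun z => by
      rw [hD1, show u.1 * (u.1 * z.1 * u.1) * u.1 = (u.1 * u.1) * z.1 * (u.1 * u.1) by group,
        huu, one_mul, mul_one]
      exact z.2
    have := hφinj (a₁ := (x, ⟨_, hmem x⟩)) (a₂ := (y, ⟨_, hmem y⟩)) e'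
    exact congrArg Prod.fst this
  have hgbij : Function.Bijective g :=
    (Nat.bijective_iff_injective_and_card g).2 ⟨hginj, (h.card_cent_swap hp u).symm⟩
  have hconj : ∀ v : h.swaps p, ∃ d ∈ D, d * u.1 * d⁻¹ = v.1 := fun v => by
    have huv : u.1 * v.1 ∈ D := by
      refine mem_two.2 ⟨?_, ?_⟩
      · rw [mul_smul, v.2.2, h.swaps_back u]
      · rw [mul_smul, h.swaps_back v, u.2.2]
    obtain ⟨m, hm⟩ := H50.exists_conj_of_odd hu2 v.2.1 (h.two_odd hp huv)
    exact ⟨_, pow_mem huv m, hm⟩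
  have hback : ∀ {d v c : G}, d * u.1 * d⁻¹ = v → c * v = v * c →
      d⁻¹ * c * d * u.1 = u.1 * (d⁻¹ * c * d) := by
    intro d v c e hc
    calc d⁻¹ * c * d * u.1 = d⁻¹ * (c * (d * u.1 * d⁻¹)) * d := by group
      _ = d⁻¹ * (d * u.1 * d⁻¹ * c) * d := by rw [e, hc]
      _ = u.1 * (d⁻¹ * c * d) := by group
  -- the family of subgroups of `R`
  let E : Option (Option (h.swaps p)) → Subgroup G := fun j =>
    match j with
    | none => D0
    | some none => D1
    | some (some v) => D ⊓ Subgroup.centralizer ({v.1} : Set G)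
  have hEcard : ∀ j, Nat.card (E j) = r := by
    rintro (_ | _ | v)
    · rfl
    · exact hD1card
    · exact h.card_cent_swap hp v
  have hER : ∀ j, E j ≤ R := by
    rintro (_ | _ | v) x hx
    · exact ⟨(⟨x, hx⟩, 1), by rw [hφ]; exact mul_one x⟩
    · exact ⟨(1, ⟨x, hx⟩), by rw [hφ]; exact one_mul x⟩
    · obtain ⟨d, hd, hdv⟩ := hconj v
      obtain ⟨y, hy⟩ := hgbij.2 ⟨d⁻¹ * x * d, Subgroup.mem_inf.2
        ⟨mul_mem (mul_mem (inv_mem hd) hx.1) hd, mem_cent_iff.2 (hback hdv (mem_cent_iff.1 hx.2))⟩⟩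
      have hy' : y.1 * (u.1 * y.1 * u.1) = d⁻¹ * x * d := congrArg Subtype.val hy
      have h1 : u.1 * y.1 * u.1 ∈ D1 := by
        rw [hD1, show u.1 * (u.1 * y.1 * u.1) * u.1 = (u.1 * u.1) * y.1 * (u.1 * u.1) by group,
          huu, one_mul, mul_one]
        exact y.2
      refine ⟨(⟨_, hn0 d hd _ y.2⟩, ⟨_, hn1 d hd _ h1⟩), ?_⟩
      rw [hφ]
      calc d * y.1 * d⁻¹ * (d * (u.1 * y.1 * u.1) * d⁻¹)
          = d * (y.1 * (u.1 * y.1 * u.1)) * d⁻¹ := by group
        _ = x := by rw [hy']; group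
  have hC0 : ∀ (v : h.swaps p) x, x ∈ D0 → x ∈ Subgroup.centralizer ({v.1} : Set G) → x = 1 :=
    fun v x hx hxv => by
      by_contra hne
      refine h.swaps_not_mem hp v (h.ti hT hx.1 hne ?_)
      rw [mul_assoc, mem_cent_iff.1 hxv, inv_mul_cancel_left]
      exact hx.1
  have hC1 : ∀ (v : h.swaps p) x, x ∈ D1 → x ∈ Subgroup.centralizer ({v.1} : Set G) → x = 1 :=
    fun v x hx hxv => by
      obtain ⟨d, hd, hdv⟩ := hconj v
      have h1 : d⁻¹ * x * d ∈ D1 := by simpa using hn1 _ (inv_mem hd) _ hx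
      have h2 := hback hdv (mem_cent_iff.1 hxv)
      have h3 : d⁻¹ * x * d ∈ D0 := by
        have := (hD1 _).1 h1
        rwa [mul_assoc u.1, h2, ← mul_assoc u.1, huu, one_mul] at this
      have := hinter _ h3 h1
      calc x = d * (d⁻¹ * x * d) * d⁻¹ := by group
        _ = 1 := by rw [this]; group
  have hCC : ∀ (v w : h.swaps p) x, x ≠ 1 → x ∈ Subgroup.centralizer ({v.1} : Set G) →
      x ∈ Subgroup.centralizer ({w.1} : Set G) → v = w := fun v w x hx hxv hxw => by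
    obtain ⟨t, ht, ht2⟩ := h.exists_involution
    obtain ⟨b, hb⟩ := h.exists_conj ht2 v.2.1
    obtain ⟨c, hc⟩ := h.exists_conj ht2 w.2.1
    have mk : ∀ {b z : G}, b * t * b⁻¹ = z → x * z = z * x → b⁻¹ * x * b ∈ cenS S := by
      intro b z e hz
      refine h.mem_cenS_of_commute ht ht2 ?_
      calc b⁻¹ * x * b * t = b⁻¹ * (x * (b * t * b⁻¹)) * b := by group
        _ = b⁻¹ * (b * t * b⁻¹ * x) * b := by rw [e, hz]
        _ = t * (b⁻¹ * x * b) := by group
    have hxb := mk hb (mem_cent_iff.1 hxv)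
    have hxc := mk hc (mem_cent_iff.1 hxw)
    have hbc : b⁻¹ * c ∈ norS S := by
      refine h.ti hT hxb (fun e => hx ?_) ?_
      · calc x = b * (b⁻¹ * x * b) * b⁻¹ := by group
          _ = 1 := by rw [e]; group
      · rw [show (b⁻¹ * c)⁻¹ * (b⁻¹ * x * b) * (b⁻¹ * c) = c⁻¹ * x * c by group]
        exact hxc
    have ht' : b⁻¹ * c * t * (b⁻¹ * c)⁻¹ ∈ S := (Subgroup.mem_normalizer_iff.1 hbc t).1 ht
    have e := h.comm ht ht'
    have hvw : v.1 * w.1 = w.1 * v.1 := by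
      rw [← hb, ← hc]
      calc b * t * b⁻¹ * (c * t * c⁻¹) = b * (t * (b⁻¹ * c * t * (b⁻¹ * c)⁻¹)) * b⁻¹ := by group
        _ = b * (b⁻¹ * c * t * (b⁻¹ * c)⁻¹ * t) * b⁻¹ := by rw [e]
        _ = c * t * c⁻¹ * (b * t * b⁻¹) := by group
    have hD' : v.1 * w.1 ∈ D := by
      refine mem_two.2 ⟨?_, ?_⟩
      · rw [mul_smul, w.2.2, h.swaps_back v]
      · rw [mul_smul, h.swaps_back w, v.2.2]
    have hone : v.1 * w.1 = 1 := eq_one_of_sq (h.two_odd hp hD') (by
      nth_rewrite 2 [hvw]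
      rw [show v.1 * w.1 * (w.1 * v.1) = v.1 * (w.1 * w.1) * v.1 by group,
        H50.inv_mul_self w.2.1, mul_one, H50.inv_mul_self v.2.1])
    refine Subtype.ext ?_
    rw [← H50.inv_eq_self w.2.1]
    exact eq_inv_of_mul_eq_one_left hone
  have hdisj : ∀ j k x, x ≠ (1 : G) → x ∈ E j → x ∈ E k → j = k := by
    rintro (_ | _ | v) (_ | _ | w) x hx hj hk
    · rfl
    · exact absurd (hinter x hj hk) hx
    · exact absurd (hC0 w x hj hk.2) hx
    · exact absurd (hinter x hk hj) hx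
    · rfl
    · exact absurd (hC1 w x hj hk.2) hx
    · exact absurd (hC0 v x hk hj.2) hx
    · exact absurd (hC1 v x hk hj.2) hx
    · rw [hCC v w x hx hj.2 hk.2]
  -- counting
  have hsub : ∀ H : Subgroup G, Nat.card {x : H // x ≠ 1} = Nat.card H - 1 := fun H => by
    haveI := Fintype.ofFinite H
    rw [Nat.card_eq_fintype_card, Fintype.card_subtype_compl, Fintype.card_subtype_eq,
      Nat.card_eq_fintype_card]
  let F : (Σ j, {x : E j // x ≠ 1}) → {x : R // x ≠ 1} := fun z =>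
    ⟨⟨z.2.1.1, hER z.1 z.2.1.2⟩, fun e => z.2.2 (Subtype.ext (congrArg Subtype.val e :))⟩
  have hF : Function.Injective F := by
    rintro ⟨j, ⟨x, hx⟩, hx1⟩ ⟨k, ⟨y, hy⟩, hy1⟩ e
    have e' : x = y := congrArg (fun z : {x : R // x ≠ 1} => z.1.1) e
    subst e'
    obtain rfl := hdisj j k x (fun e => hx1 (Subtype.ext e)) hx hy
    rfl
  have hle := Nat.card_le_card_of_injective F hF
  haveI := Fintype.ofFinite (h.swaps p)
  rw [Nat.card_sigma, Finset.sum_congr rfl (g := fun _ => r - 1)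
    (fun j _ => (hsub (E j)).trans (by rw [hEcard])), Finset.sum_const, smul_eq_mul,
    Finset.card_univ, Fintype.card_option, Fintype.card_option, hsub, hRcard,
    ← Nat.card_eq_fintype_card, h.swaps_card hp] at hle
  -- `a` is one
  by_contra hne
  have h2 : 1 < r := by
    rw [hr, Finite.one_lt_card_iff_nontrivial]
    exact ⟨⟨⟨a, ha, smul_base_iff.2 (cenS_le_norS S ha), hap⟩, 1,
      fun e => hne (congrArg Subtype.val e)⟩⟩
  have := h.invs_card.1
  have hle2 : r ≤ Nat.card h.invs := Nat.le_of_dvd (by omega) hri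
  obtain ⟨m, hm⟩ : ∃ m, r = m + 1 := ⟨r - 1, by omega⟩
  rw [hm] at hle hle2
  rw [Nat.add_sub_cancel] at hle
  have hsq : (m + 1) * (m + 1) - 1 = m * (m + 2) := by
    rw [show (m + 1) * (m + 1) = m * (m + 2) + 1 by ring, Nat.add_sub_cancel]
  rw [hsq, mul_comm _ m] at hle
  have := Nat.le_of_mul_le_mul_left hle (by omega)
  omega

/-- The two-point stabiliser has order `i` and is inverted by the exchanging involutions. -/
lemma Hyp.two_spec (hT : Tight S) {p : G ⧸ norS S} (hp : p ≠ base S) :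
    Nat.card (two S p) = Nat.card h.invs ∧
      ∀ u : h.swaps p, ∀ d ∈ two S p, u.1 * d * u.1⁻¹ = d⁻¹ := by
  have hbot : (cenS S ⊓ two S p : Subgroup G) = ⊥ :=
    (Subgroup.eq_bot_iff_forall _).2 fun x hx => h.free hT hp hx.1 hx.2.2
  have hcard : Nat.card (two S p) = Nat.card h.invs := by
    rw [h.card_two hp, hbot, Subgroup.card_bot, mul_one]
  refine ⟨hcard, fun u d hd => ?_⟩
  have hmem : ∀ v : h.swaps p, u.1 * v.1 ∈ two S p := fun v => by
    refine mem_two.2 ⟨?_, ?_⟩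
    · rw [mul_smul, v.2.2, h.swaps_back u]
    · rw [mul_smul, h.swaps_back v, u.2.2]
  obtain ⟨v, hv⟩ := ((Nat.bijective_iff_injective_and_card
    (fun v : h.swaps p => (⟨u.1 * v.1, hmem v⟩ : two S p))).2
    ⟨fun v w e => Subtype.ext (mul_left_cancel (congrArg Subtype.val e)),
      by rw [h.swaps_card hp, hcard]⟩).2 ⟨d, hd⟩
  have hv' : u.1 * v.1 = d := congrArg Subtype.val hv
  rw [← hv', mul_inv_rev, H50.inv_eq_self u.2.1,
    H50.inv_eq_self v.2.1, ← mul_assoc u.1 u.1, H50.inv_mul_self u.2.1, one_mul]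

end Cfsg.Agent.H7.ACA
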