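import Mathlib
import Cfsg.Agent.H7.AbelianCA.Free
import Cfsg.Agent.S0885

/-!
# The tight case: a Zassenhaus group on the Sylow 2-subgroups
-/

set_option autoImplicit false

open MulAction

namespace Cfsg.Agent.H7.ACA

variable {G : Type*} [Group G] [Finite G] {S : Sylow 2 G} (h : Hyp S)
include h

lemma Hyp.exists_ne_base : ∃ p : G ⧸ norS S, p ≠ base S := by
  obtain ⟨u, -, huN⟩ := h.exists_outside
  exact ⟨u • base S, fun e => huN (smul_base_iff.1 e)⟩

lemma Hyp.coset_pair (hT : Tight S) {x y : G ⧸ norS S} (hxy : x ≠ y) :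
    (∃ v : G, orderOf v = 2 ∧ v • x = y) ∧
      (∀ v : G, orderOf v = 2 → v • x = y → ∀ d : G, d • x = x → d • y = y →
        v * d * v⁻¹ = d⁻¹) ∧
      Nat.card (stabilizer G x ⊓ stabilizer G y : Subgroup G) = Nat.card h.invs := by
  obtain ⟨g, rfl⟩ := MulAction.exists_smul_eq G (base S) x
  set p := g⁻¹ • y with hpdef
  have hy : y = g • p := (smul_inv_smul g y).symm
  have hp : p ≠ base S := fun e => hxy (by rw [hy, e])
  have hconj : ∀ (z : G) (q : G ⧸ norS S), (g⁻¹ * z * g) • q = q ↔ z • g • q = g • q := fun z q => by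
    rw [mul_smul, mul_smul, inv_smul_eq_iff]
  have hmem : ∀ d : G, d ∈ stabilizer G (g • base S) ⊓ stabilizer G y ↔
      g⁻¹ * d * g ∈ two S p := fun d => by
    rw [mem_two, hconj, hconj, ← hy]
    exact Iff.rfl
  refine ⟨?_, fun v hv hvx d hdx hdy => ?_, ?_⟩
  · obtain ⟨u⟩ := h.exists_swap hp
    refine ⟨g * u.1 * g⁻¹, by rw [H50.orderOf_conj, u.2.1], ?_⟩
    rw [mul_smul, mul_smul, inv_smul_smul, u.2.2, ← hy]
  · have h1 := (h.two_spec hT hp).2
      ⟨g⁻¹ * v * g, by rw [orderOf_conj', hv],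
        by rw [mul_smul, mul_smul, hvx]⟩ _ ((hmem d).1 ⟨hdx, hdy⟩)
    calc v * d * v⁻¹ = g * ((g⁻¹ * v * g) * (g⁻¹ * d * g) * (g⁻¹ * v * g)⁻¹) * g⁻¹ := by group
      _ = g * (g⁻¹ * d * g)⁻¹ * g⁻¹ := by rw [h1]
      _ = d⁻¹ := by group
  · rw [← (h.two_spec hT hp).1]
    exact Nat.card_congr
      { toFun := fun d => ⟨g⁻¹ * d.1 * g, (hmem _).1 d.2⟩
        invFun := fun d => ⟨g * d.1 * g⁻¹, (hmem _).2 (by simpa [mul_assoc] using d.2)⟩
        left_inv := fun d => Subtype.ext (by simp [mul_assoc])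
        right_inv := fun d => Subtype.ext (by simp [mul_assoc]) }

/-- A non-trivial element fixing two points fixes no third one. -/
lemma Hyp.fix_two (hT : Tight S) {k : G} (hk : k ≠ 1) {x y z : G ⧸ norS S} (hxy : x ≠ y)
    (hx : k • x = x) (hy : k • y = y) (hz : k • z = z) : z = x ∨ z = y := by
  have hodd : Odd (orderOf k) := H50.se_odd_of_two_fixed h.stronglyEmbedded hxy hx hy
  -- involutions inverting `k` fix none of its fixed points
  have hnofix : ∀ v : G, orderOf v = 2 → v * k * v⁻¹ = k⁻¹ → ∀ q : G ⧸ norS S,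
      k • q = q → v • q ≠ q := by
    intro v hv hvk q hq hvq
    induction q using QuotientGroup.induction_on with
    | H g =>
      have hvS : g⁻¹ * v * g ∈ S :=
        inv_mem_S (smul_coset_iff.1 hvq) (by rw [orderOf_conj', hv])
      have hkN := smul_coset_iff.1 hq
      have h1 : g⁻¹ * k * g * (g⁻¹ * v * g) * (g⁻¹ * k * g)⁻¹ * (g⁻¹ * v * g)⁻¹ ∈ S :=
        mul_mem ((Subgroup.mem_normalizer_iff.1 hkN _).1 hvS) (inv_mem hvS)
      rw [show g⁻¹ * k * g * (g⁻¹ * v * g) * (g⁻¹ * k * g)⁻¹ * (g⁻¹ * v * g)⁻¹ =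
        g⁻¹ * (k * (v * k * v⁻¹)⁻¹) * g by group, hvk, inv_inv] at h1
      obtain ⟨j, hj⟩ := S.2 ⟨_, h1⟩
      have hj' : (g⁻¹ * (k * k) * g) ^ 2 ^ j = 1 := congrArg Subtype.val hj
      have h2 : (k * k) ^ 2 ^ j = 1 := by
        rw [show k * k = g * (g⁻¹ * (k * k) * g) * g⁻¹ by group, conj_pow, hj']
        group
      rw [← pow_two, ← pow_mul, ← pow_succ'] at h2
      exact hk (orderOf_eq_one_iff.1 (Nat.eq_one_of_dvd_coprimes
        (Nat.Coprime.pow_right _ (Nat.coprime_two_right.2 hodd)) dvd_rfl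
        (orderOf_dvd_of_pow_eq_one h2)))
  -- they invert the centraliser of `k`
  have hinv : ∀ v : G, orderOf v = 2 → v * k * v⁻¹ = k⁻¹ →
      ∀ b ∈ Subgroup.centralizer ({k} : Set G), v * b * v⁻¹ = b⁻¹ := by
    intro v hv hvk
    have key : ∀ b ∈ Subgroup.centralizer ({k} : Set G),
        v * b * v⁻¹ ∈ Subgroup.centralizer ({k} : Set G) := fun b hb => by
      have h1 : Commute (v * b * v⁻¹) k⁻¹ := by
        rw [← hvk]
        exact (Commute.conj_iff v).2 (mem_cent_iff.1 hb)
      exact mem_cent_iff.2 (Commute.inv_right_iff.1 h1).eq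
    let φ : Subgroup.centralizer ({k} : Set G) →* Subgroup.centralizer ({k} : Set G) :=
      { toFun := fun b => ⟨v * b.1 * v⁻¹, key b.1 b.2⟩
        map_one' := Subtype.ext (by simp)
        map_mul' := fun b b' => Subtype.ext (by simp [mul_assoc]) }
    have hfp : MonoidHom.FixedPointFree φ := by
      intro b hb
      have hb' : v * b.1 * v⁻¹ = b.1 := congrArg Subtype.val hb
      rw [mul_inv_eq_iff_eq_mul] at hb'
      by_contra hne
      obtain ⟨t, ht, ht2⟩ := h.exists_involution
      obtain ⟨g, hg⟩ := h.exists_conj ht2 hv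
      have hb2 : g⁻¹ * b.1 * g ∈ cenS S := h.mem_cenS_of_commute ht ht2 (by
        calc g⁻¹ * b.1 * g * t = g⁻¹ * (b.1 * (g * t * g⁻¹)) * g := by group
          _ = g⁻¹ * (g * t * g⁻¹ * b.1) * g := by rw [hg, hb']
          _ = t * (g⁻¹ * b.1 * g) := by group)
      have hkN : g⁻¹ * k * g ∈ norS S := by
        refine h.ti hT hb2 (fun e => hne (Subtype.ext ?_)) ?_
        · calc b.1 = g * (g⁻¹ * b.1 * g) * g⁻¹ := by group
            _ = 1 := by rw [e]; group
        · rw [show (g⁻¹ * k * g)⁻¹ * (g⁻¹ * b.1 * g) * (g⁻¹ * k * g) =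
            g⁻¹ * (k⁻¹ * (b.1 * k)) * g by group, mem_cent_iff.1 b.2, inv_mul_cancel_left]
          exact hb2
      exact hnofix v hv hvk _ (smul_coset_iff.2 hkN) (smul_coset_iff.2 (by
        rw [← hg, show g⁻¹ * (g * t * g⁻¹) * g = t by group]
        exact Subgroup.le_normalizer ht))
    have hinvo : Function.Involutive φ := fun b => Subtype.ext (by
      show v * (v * b.1 * v⁻¹) * v⁻¹ = b.1
      rw [H50.inv_eq_self hv, show v * (v * b.1 * v) * v = (v * v) * b.1 * (v * v) by
        simp only [mul_assoc], H50.inv_mul_self hv, one_mul, mul_one])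
    intro b hb
    exact congrArg Subtype.val (congrFun (hfp.coe_eq_inv_of_involutive hinvo) ⟨b, hb⟩)
  -- one orbit of the centraliser misses exactly one fixed point
  obtain ⟨⟨u, hu, hux⟩, hinvxy, -⟩ := h.coset_pair hT hxy
  have huk := hinvxy u hu hux k hx hy
  have horb : ∀ a c : G ⧸ norS S, u • a = c → k • a = a → k • c = c →
      (∀ q, k • q = q → q ≠ c → ∃ b ∈ Subgroup.centralizer ({k} : Set G), b • a = q) ∧
      ∀ b ∈ Subgroup.centralizer ({k} : Set G), b • a ≠ c := by
    intro a c hac ha hc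
    constructor
    · intro q hq hqc
      have hfix : k • u • q = u • q := by
        have e : k * u = u * k⁻¹ := by
          rw [← huk, H50.inv_eq_self hu, ← mul_assoc, ← mul_assoc, H50.inv_mul_self hu, one_mul]
        rw [smul_smul, e, mul_smul, inv_smul_eq_iff.2 hq.symm]
      have hne : a ≠ u • q := fun e => hqc (by
        rw [← hac, e, H50.smul_smul_self hu])
      obtain ⟨⟨v, hv, hva⟩, hinv', -⟩ := h.coset_pair hT hne
      have hvk := hinv' v hv hva k ha hfix
      refine ⟨u * v, mem_cent_iff.2 ?_, by rw [mul_smul, hva, H50.smul_smul_self hu]⟩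
      have h2 : u * v * k * (u * v)⁻¹ = k := by
        rw [show u * v * k * (u * v)⁻¹ = u * (v * k * v⁻¹) * u⁻¹ by group, hvk,
          show u * k⁻¹ * u⁻¹ = (u * k * u⁻¹)⁻¹ by group, huk, inv_inv]
      exact mul_inv_eq_iff_eq_mul.1 h2
    · intro b hb hbac
      have hub := hinv u hu huk b hb
      have hfix : (u * b) • a = a := by
        rw [mul_smul, hbac, ← hac, H50.smul_smul_self hu]
      have hne : u * b ≠ 1 := fun e => by
        have hb1 : b = u := by
          rw [← H50.inv_eq_self hu]; exact eq_inv_of_mul_eq_one_right e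
        subst hb1
        have h1 := mem_cent_iff.1 hb
        rw [mul_inv_eq_iff_eq_mul.2 h1] at huk
        exact hk (eq_one_of_sq hodd (by nth_rewrite 1 [huk]; exact inv_mul_cancel k))
      have hord : orderOf (u * b) = 2 := by
        refine H50.orderOf_eq_two ?_ hne
        rw [H50.inv_eq_self hu] at hub
        rw [show u * b * (u * b) = (u * b * u) * b by group, hub, inv_mul_cancel]
      refine hnofix (u * b) hord ?_ a ha hfix
      rw [show u * b * k * (u * b)⁻¹ = u * (b * k * b⁻¹) * u⁻¹ by group,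
        mem_cent_iff.1 hb, mul_inv_cancel_right, huk]
  by_contra hcon
  push Not at hcon
  obtain ⟨b, hb, hbz⟩ := (horb x y hux hx hy).1 z hz hcon.2
  obtain ⟨c, hc, hcz⟩ := (horb y x (H50.smul_swap hu hux) hy hx).1 z hz hcon.1
  refine (horb x y hux hx hy).2 (c⁻¹ * b) (mul_mem (inv_mem hc) hb) ?_
  rw [mul_smul, hbz, ← hcz, inv_smul_smul]

lemma Hyp.eq_one_of_fix_all (hT : Tight S) {g : G} (hg : ∀ q : G ⧸ norS S, g • q = q) :
    g = 1 := by
  by_contra hne
  have hc := h.mem_center_of_fix hg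
  obtain ⟨hA, hodd⟩ := h.center_spec hc
  obtain ⟨u, -, huN⟩ := h.exists_outside
  exact huN (hT g hA hne hodd (mem_cent_iff.2 (Subgroup.mem_center_iff.1 hc u)))

/-- `i` divides `|C(S)| - 1`. -/
lemma Hyp.invs_dvd (hT : Tight S) : Nat.card h.invs ∣ Nat.card (cenS S) - 1 := by
  classical
  obtain ⟨p, hp⟩ := h.exists_ne_base
  let X : Set G := {x | x ∈ cenS S ∧ x ≠ 1}
  have hX : Nat.card X = Nat.card (cenS S) - 1 := by
    rw [Nat.card_coe_set_eq, show X = (cenS S : Set G) \ {1} from rfl,
      Set.ncard_sdiff_singleton_of_mem (one_mem _), ← Nat.card_coe_set_eq]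
    rfl
  let act : MulAction (two S p) X :=
    { smul := fun g x => ⟨g.1 * x.1 * g.1⁻¹, conj_mem_cenS (two_le_norS g.2) x.2.1,
        fun e => x.2.2 (conj_eq_one_iff.1 e)⟩
      one_smul := fun x => Subtype.ext (by show (1 : G) * x.1 * 1⁻¹ = x.1; simp)
      mul_smul := fun g k x => Subtype.ext (by
        show (g.1 * k.1) * x.1 * (g.1 * k.1)⁻¹ = g.1 * (k.1 * x.1 * k.1⁻¹) * g.1⁻¹
        group) }
  have hstab : ∀ x : X, stabilizer (two S p) x = ⊥ := by
    intro x
    refine (Subgroup.eq_bot_iff_forall _).2 fun d hd => ?_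
    by_contra hne
    have hd' : d.1 * x.1 * d.1⁻¹ = x.1 := congrArg Subtype.val hd
    have hfix : d.1 • x.1 • p = x.1 • p := by
      rw [smul_smul, mul_inv_eq_iff_eq_mul.1 hd', mul_smul, d.2.2]
    have hxp : x.1 • p ≠ base S := fun e => hp (by
      rw [← smul_left_cancel x.1 (e.trans (smul_base_iff.2 (cenS_le_norS S x.2.1)).symm)])
    rcases h.fix_two hT (fun e => hne (Subtype.ext e)) hp.symm d.2.1 d.2.2 hfix with e | e
    · exact hxp e
    · exact x.2.2 (h.free hT hp x.2.1 e)
  have horb : ∀ x : X, Nat.card (orbit (two S p) x) = Nat.card h.invs := by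
    intro x
    have h1 := Nat.card_congr (orbitProdStabilizerEquivGroup (two S p) x)
    rw [Nat.card_prod, hstab, Subgroup.card_bot, mul_one, (h.two_spec hT hp).1] at h1
    exact h1
  have := Fintype.ofFinite (orbitRel.Quotient (two S p) X)
  rw [← hX, Nat.card_congr (selfEquivSigmaOrbits' (two S p) X), Nat.card_sigma,
    Finset.sum_congr rfl (g := fun _ => Nat.card h.invs) fun O _ => ?_]
  · rw [Finset.sum_const, smul_eq_mul]
    exact dvd_mul_left _ _
  · induction O using Quotient.inductionOn' with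
    | h x => rw [orbitRel.Quotient.orbit_mk]; exact horb x

/-- The degree is `|C(S)| + 1`. -/
lemma Hyp.card_points (hT : Tight S) : Nat.card (G ⧸ norS S) = Nat.card (cenS S) + 1 := by
  classical
  have := Fintype.ofFinite (G ⧸ norS S)
  have := Fintype.ofFinite G
  set a := Nat.card (cenS S)
  obtain ⟨p, hp⟩ := h.exists_ne_base
  have hlow : a + 1 ≤ Nat.card (G ⧸ norS S) := by
    let f : Option (cenS S) → G ⧸ norS S := fun c => c.elim (base S) fun c => c.1 • p
    have hne : ∀ c : cenS S, c.1 • p ≠ base S := fun c e => hp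
      (smul_left_cancel c.1 (e.trans (smul_base_iff.2 (cenS_le_norS S c.2)).symm))
    have hinj : Function.Injective f := by
      rintro (_ | c) (_ | d) e
      · rfl
      · exact absurd e.symm (hne d)
      · exact absurd e (hne c)
      · have e' : c.1 • p = d.1 • p := e
        have := h.free hT hp (mul_mem (inv_mem d.2) c.2) (by rw [mul_smul, e', inv_smul_smul])
        exact congrArg some (Subtype.ext (inv_mul_eq_one.1 this).symm)
    have := Nat.card_le_card_of_injective f hinj
    rwa [Finite.card_option] at this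
  have hup : Nat.card (G ⧸ norS S) ≤ a + 1 := by
    let P : Finset (G ⧸ norS S) := Finset.univ.erase (base S)
    let D : (G ⧸ norS S) → Finset G := fun q =>
      (Finset.univ.filter fun c => c ∈ two S q).erase 1
    have hD : ∀ q ∈ P, (D q).card = Nat.card h.invs - 1 := by
      intro q hq
      rw [Finset.card_erase_of_mem (Finset.mem_filter.2 ⟨Finset.mem_univ _, one_mem _⟩),
        ← (h.two_spec hT (Finset.mem_erase.1 hq).1).1, Nat.card_eq_fintype_card,
        Fintype.card_subtype]
    have hdisj : (P : Set (G ⧸ norS S)).PairwiseDisjoint D := by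
      intro q hq q' hq' hne
      rw [Finset.mem_coe] at hq hq'
      simp only [Function.onFun]
      rw [Finset.disjoint_left]
      intro c hc hc'
      obtain ⟨hc1, hc⟩ := Finset.mem_erase.1 hc
      obtain ⟨-, hc'⟩ := Finset.mem_erase.1 hc'
      rcases h.fix_two hT hc1 (Finset.mem_erase.1 hq).1.symm (Finset.mem_filter.1 hc).2.1
        (Finset.mem_filter.1 hc).2.2 (Finset.mem_filter.1 hc').2.2 with e | e
      · exact (Finset.mem_erase.1 hq').1 e
      · exact hne e.symm
    let NA : Finset G := (Finset.univ.filter fun c => c ∈ norS S) \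
      (Finset.univ.filter fun c => c ∈ cenS S)
    have hsub : P.biUnion D ⊆ NA := by
      intro c hc
      obtain ⟨q, hq, hc⟩ := Finset.mem_biUnion.1 hc
      obtain ⟨hc1, hc⟩ := Finset.mem_erase.1 hc
      refine Finset.mem_sdiff.2 ⟨Finset.mem_filter.2 ⟨Finset.mem_univ _,
        smul_base_iff.1 (Finset.mem_filter.1 hc).2.1⟩, fun hA => hc1 ?_⟩
      exact h.free hT (Finset.mem_erase.1 hq).1 (Finset.mem_filter.1 hA).2
        (Finset.mem_filter.1 hc).2.2
    have hNA : NA.card = a * Nat.card h.invs - a := by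
      rw [Finset.card_sdiff_of_subset fun c hc => Finset.mem_filter.2 ⟨Finset.mem_univ _,
        cenS_le_norS S (Finset.mem_filter.1 hc).2⟩]
      rw [← Fintype.card_subtype, ← Fintype.card_subtype, ← Nat.card_eq_fintype_card,
        ← Nat.card_eq_fintype_card]
      show Nat.card (norS S) - Nat.card (cenS S) = _
      rw [h.card_norS]
    have hle := Finset.card_le_card hsub
    rw [Finset.card_biUnion hdisj, Finset.sum_congr rfl hD, Finset.sum_const, smul_eq_mul, hNA,
      Finset.card_erase_of_mem (Finset.mem_univ _), Finset.card_univ, ← Nat.card_eq_fintype_card,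
      ← Nat.mul_sub_one] at hle
    have := Nat.le_of_mul_le_mul_right hle (by have := h.invs_card.1; omega)
    omega
  omega

lemma Hyp.two_transitive (hT : Tight S) : IsMultiplyPretransitive G (G ⧸ norS S) 2 := by
  classical
  have := Fintype.ofFinite (G ⧸ norS S)
  have hreg : ∀ p q : G ⧸ norS S, p ≠ base S → q ≠ base S → ∃ c ∈ cenS S, c • p = q := by
    intro p q hp hq
    let f : cenS S → {x : G ⧸ norS S // x ≠ base S} := fun c => ⟨c.1 • p, fun e => hp
      (smul_left_cancel c.1 (e.trans (smul_base_iff.2 (cenS_le_norS S c.2)).symm))⟩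
    have hinj : Function.Injective f := fun c d e => by
      have e' : c.1 • p = d.1 • p := congrArg Subtype.val e
      have := h.free hT hp (mul_mem (inv_mem d.2) c.2) (by rw [mul_smul, e', inv_smul_smul])
      exact Subtype.ext (inv_mul_eq_one.1 this).symm
    have hbij := hinj.bijective_of_nat_card_le (by
      rw [Nat.card_eq_fintype_card (α := {x : G ⧸ norS S // x ≠ base S}),
        Fintype.card_subtype_compl, Fintype.card_subtype_eq, ← Nat.card_eq_fintype_card,
        h.card_points hT]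
      omega)
    obtain ⟨c, hc⟩ := hbij.2 ⟨q, hq⟩
    exact ⟨c.1, c.2, congrArg Subtype.val hc⟩
  rw [is_two_pretransitive_iff]
  intro x y z w hxy hzw
  obtain ⟨g₁, hg₁⟩ := MulAction.exists_smul_eq G x (base S)
  obtain ⟨g₂, hg₂⟩ := MulAction.exists_smul_eq G z (base S)
  obtain ⟨c, hcA, hc⟩ := hreg (g₁ • y) (g₂ • w)
    (fun e => hxy (smul_left_cancel g₁ (hg₁.trans e.symm)))
    (fun e => hzw (smul_left_cancel g₂ (hg₂.trans e.symm)))
  refine ⟨g₂⁻¹ * c * g₁, ?_, ?_⟩
  · rw [mul_smul, mul_smul, hg₁, smul_base_iff.2 (cenS_le_norS S hcA), inv_smul_eq_iff, hg₂]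
  · rw [mul_smul, mul_smul, hc, inv_smul_smul]

lemma Hyp.isZassenhaus (hT : Tight S) : Cfsg.IsZassenhausGroup G (G ⧸ norS S) := by
  obtain ⟨p, hp⟩ := h.exists_ne_base
  refine ⟨⟨fun {g k} e => ?_⟩, h.two_transitive hT, ?_, ?_, ?_⟩
  · exact inv_mul_eq_one.1 (h.eq_one_of_fix_all hT (g := g⁻¹ * k) fun x => by
      rw [mul_smul, ← e x, inv_smul_smul])
  · intro g a b c hab hbc hac ha hb hc
    by_contra hne
    rcases h.fix_two hT hne hab ha hb hc with e | e
    · exact hac e.symm
    · exact hbc e.symm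
  · have : Nontrivial (two S p) := Finite.one_lt_card_iff_nontrivial.1 (by
      rw [(h.two_spec hT hp).1]
      have := h.invs_card.1
      omega)
    obtain ⟨⟨g, hg⟩, hg1⟩ := exists_ne (1 : two S p)
    exact ⟨g, fun e => hg1 (Subtype.ext e), base S, p, hp.symm, hg.1, hg.2⟩
  · intro M hM htr
    by_contra hcon
    push Not at hcon
    have htriv : ∀ m ∈ M, ∀ q : G ⧸ norS S, m • q = q → m = 1 := fun m hm q hq => by
      have : (⟨m, hm⟩ : M) ∈ stabilizer M q := hq
      exact congrArg Subtype.val (Subgroup.mem_bot.1 ((le_of_eq (hcon q)) this))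
    have hfp : ∀ s : G, orderOf s = 2 → s ∈ S → ∀ m ∈ M, s * m * s⁻¹ = m⁻¹ := by
      intro s hs hsS
      let φ : M →* M :=
        { toFun := fun m => ⟨s * m.1 * s⁻¹, hM.conj_mem _ m.2 s⟩
          map_one' := Subtype.ext (by simp)
          map_mul' := fun b b' => Subtype.ext (by simp [mul_assoc]) }
      have hφ : MonoidHom.FixedPointFree φ := fun m hm => by
        have hm' : s * m.1 * s⁻¹ = m.1 := congrArg Subtype.val hm
        exact Subtype.ext (htriv m.1 m.2 (base S) (H50.se_centralizer_fix h.stronglyEmbedded hs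
          (mul_inv_eq_iff_eq_mul.1 hm').symm (smul_base_iff.2 (Subgroup.le_normalizer hsS))))
      have hinvo : Function.Involutive φ := fun b => Subtype.ext (by
        show s * (s * b.1 * s⁻¹) * s⁻¹ = b.1
        rw [H50.inv_eq_self hs, show s * (s * b.1 * s) * s = (s * s) * b.1 * (s * s) by
          simp only [mul_assoc], H50.inv_mul_self hs, one_mul, mul_one])
      intro m hm
      exact congrArg Subtype.val (congrFun (hφ.coe_eq_inv_of_involutive hinvo) ⟨m, hm⟩)
    haveI : Nontrivial h.invs := Finite.one_lt_card_iff_nontrivial.1 (by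
      have := h.invs_card.1
      omega)
    obtain ⟨t, s, hts⟩ := exists_pair_ne h.invs
    have hw : orderOf (t.1 * s.1) = 2 := by
      refine H50.orderOf_eq_two ?_ fun e => hts (Subtype.ext ?_)
      · nth_rewrite 2 [h.comm (h.invs_mem t) (h.invs_mem s)]
        rw [show t.1 * s.1 * (s.1 * t.1) = t.1 * (s.1 * s.1) * t.1 by group,
          H50.inv_mul_self s.2.1, mul_one, H50.inv_mul_self t.2.1]
      · rw [← H50.inv_eq_self s.2.1]
        exact eq_inv_of_mul_eq_one_left e
    obtain ⟨⟨m, hm⟩, hmp⟩ := htr.exists_smul_eq (base S) p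
    have h1 : t.1 * s.1 * m * (t.1 * s.1)⁻¹ = m := by
      rw [show t.1 * s.1 * m * (t.1 * s.1)⁻¹ = t.1 * (s.1 * m * s.1⁻¹) * t.1⁻¹ by group,
        hfp _ s.2.1 (h.invs_mem s) m hm, ← conj_inv, hfp _ t.2.1 (h.invs_mem t) m hm, inv_inv]
    rw [hfp _ hw (mul_mem (h.invs_mem t) (h.invs_mem s)) m hm] at h1
    have hm1 : m ≠ 1 := fun e => hp (by
      rw [← hmp]
      show m • base S = base S
      rw [e, one_smul])
    have hord : orderOf m = 2 := H50.orderOf_eq_two (by
      nth_rewrite 1 [← h1]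
      exact inv_mul_cancel m) hm1
    obtain ⟨c, hc⟩ := h.exists_conj t.2.1 hord
    exact hm1 (htriv m hm _ (smul_coset_iff (h := c) |>.2 (by
      rw [← hc, show c⁻¹ * (c * t.1 * c⁻¹) * c = t.1 by group]
      exact t.2.2)))

/-- In the tight case `C(S) = S` is elementary abelian and the degree is `|S| + 1`. -/
lemma Hyp.tight_result (hT : Tight S) :
    (∀ x ∈ cenS S, x ^ 2 = 1) ∧ Nat.card (G ⧸ norS S) = Nat.card (S : Subgroup G) + 1 := by
  classical
  have := Fintype.ofFinite (G ⧸ norS S)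
  obtain ⟨p, hp⟩ := h.exists_ne_base
  obtain ⟨t, ht, ht2⟩ := h.exists_involution
  obtain ⟨hi3, hiodd⟩ := h.invs_card
  have hle : cenS S ≤ stabilizer G (base S) := fun g hg => smul_base_iff.2 (cenS_le_norS S hg)
  have hcard : Nat.card (cenS S) + 1 = Fintype.card (G ⧸ norS S) := by
    rw [← Nat.card_eq_fintype_card, h.card_points hT]
  have hfix : ∀ u ∈ cenS S, u ≠ 1 → ∀ c : G ⧸ norS S, u • c = c → c = base S :=
    fun u hu hu1 c hc => by_contra fun e => hu1 (h.free hT e hu hc)
  have hA : Nat.card (cenS S) = Nat.card h.invs + 1 := by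
    rcases Cfsg.Agent.S0885.result (h.isZassenhaus hT) hp.symm (Nat.card (cenS S))
      (Nat.card h.invs) hcard.symm (h.two_spec hT hp).1 hiodd (cenS S) hle hcard hfix with
      e | ⟨-, ⟨u, v, huv⟩, -⟩
    · obtain ⟨k, hk⟩ := h.invs_dvd hT
      obtain ⟨m, hm⟩ : 2 ∣ Nat.card (cenS S) :=
        ht2 ▸ Subgroup.orderOf_dvd_natCard _ (h.le_cenS ht)
      have hpos : 0 < Nat.card (cenS S) := Nat.card_pos
      have hk2 : k ≤ 2 :=
        Nat.le_of_mul_le_mul_left (by rw [← hk]; omega) (by omega : 0 < Nat.card h.invs)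
      obtain ⟨j, hj⟩ := hiodd
      interval_cases k <;> omega
    · exact absurd (Subtype.ext (h.cen_comm u.2 v.2)) huv
  let E : Set G := insert 1 {u | orderOf u = 2 ∧ u ∈ norS S}
  have hE : E.ncard = Nat.card (cenS S) := by
    rw [Set.ncard_insert_of_notMem (fun e => by
      have := e.1; rw [orderOf_one] at this; omega) (Set.toFinite _),
      ← Nat.card_coe_set_eq, hA]
    rfl
  have heq : E = (cenS S : Set G) := by
    refine Set.eq_of_subset_of_ncard_le (Set.insert_subset (one_mem _) fun u hu =>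
      h.le_cenS (inv_mem_S hu.2 hu.1)) ?_ (Set.toFinite _)
    rw [hE, ← Nat.card_coe_set_eq]
    rfl
  have hsq : ∀ x ∈ cenS S, x ^ 2 = 1 := fun x hx => by
    have : x ∈ E := heq ▸ hx
    rcases this with rfl | ⟨e, -⟩
    · simp
    · rw [← e, pow_orderOf_eq_one]
  refine ⟨hsq, ?_⟩
  have hS : (S : Subgroup G) = cenS S := le_antisymm h.le_cenS fun x hx =>
    mem_of_pow_eq_one (cenS_le_norS S hx) (k := 1) (by rw [pow_one, hsq x hx])
  rw [h.card_points hT]
  exact congrArg (fun H : Subgroup G => Nat.card H + 1) hS.symm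

end Cfsg.Agent.H7.ACA
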