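import Mathlib
import Cfsg.Agent.H7.AbelianCA.Zass

/-!
# The structure of groups with abelian centralisers of involutions

By induction: the odd part of `C(S)` is central, `S` is elementary abelian and there are `|S| + 1`
Sylow 2-subgroups.
-/

set_option autoImplicit false

open MulAction

namespace Cfsg.Agent.H7.ACA

variable {G : Type*} [Group G] [Finite G] {S : Sylow 2 G}

/-- The conclusion proved by induction. -/
structure Core (S : Sylow 2 G) : Prop where
  central : ∀ a ∈ cenS S, Odd (orderOf a) → a ∈ Subgroup.center G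
  sq : ∀ s ∈ S, s ^ 2 = 1
  card : Nat.card (G ⧸ norS S) = Nat.card (S : Subgroup G) + 1

/-- No subgroup of odd order is transitive on the involutions. -/
lemma Hyp.no_odd_transitive (h : Hyp S) (hc : Core S) (X : Subgroup G)
    (hX : Odd (Nat.card X))
    (htr : ∀ a b : G, orderOf a = 2 → orderOf b = 2 → ∃ x ∈ X, x * a * x⁻¹ = b) : False := by
  classical
  haveI := Fintype.ofFinite (G ⧸ norS S)
  obtain ⟨t, ht, ht2⟩ := h.exists_involution
  set T : Subgroup G := X ⊓ norS S with hTdef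
  have hTodd : Odd (Nat.card T) :=
    Odd.of_dvd_nat hX (Subgroup.card_dvd_of_le inf_le_left)
  have hTtr : ∀ v : h.invs, ∃ x ∈ T, x * t * x⁻¹ = v.1 := by
    intro v
    obtain ⟨x, hx, hxv⟩ := htr t v.1 ht2 v.2.1
    refine ⟨x, Subgroup.mem_inf.2 ⟨hx, h.mem_norS (h.invs_mem v) v.2.1 ?_⟩, hxv⟩
    rw [← hxv, show x⁻¹ * (x * t * x⁻¹) * x = t by group]
    exact ht
  -- `S` is regular on the other points
  have hsfree : ∀ p : G ⧸ norS S, p ≠ base S → ∀ s ∈ S, s • p = p → s = 1 := by
    intro p hp s hs hsp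
    by_contra hne
    have h2 : orderOf s = 2 :=
      H50.orderOf_eq_two (by rw [← pow_two]; exact hc.sq s hs) hne
    exact hp (H50.se_fix_unique h.stronglyEmbedded h2 hsp
      (smul_base_iff.2 (Subgroup.le_normalizer hs)))
  have hne : ∀ p : G ⧸ norS S, p ≠ base S → ∀ s ∈ S, s • p ≠ base S := fun p hp s hs e =>
    hp (smul_left_cancel s (e.trans (smul_base_iff.2 (Subgroup.le_normalizer hs)).symm))
  have hinj : ∀ p : G ⧸ norS S, p ≠ base S → ∀ a b : G, a ∈ S → b ∈ S → a • p = b • p → a = b :=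
    fun p hp a b ha hb e => (inv_mul_eq_one.1 (hsfree p hp _ (mul_mem (inv_mem hb) ha)
      (by rw [mul_smul, e, inv_smul_smul]))).symm
  have hreg : ∀ p q : G ⧸ norS S, p ≠ base S → q ≠ base S → ∃ s ∈ S, s • p = q := by
    intro p q hp hq
    let f : ↥(S : Subgroup G) → {x : G ⧸ norS S // x ≠ base S} := fun s =>
      ⟨s.1 • p, hne p hp s.1 s.2⟩
    have hbij := (show Function.Injective f from fun a b e =>
      Subtype.ext (hinj p hp _ _ a.2 b.2 (congrArg Subtype.val e))).bijective_of_nat_card_le (by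
        rw [Nat.card_eq_fintype_card (α := {x : G ⧸ norS S // x ≠ base S}),
          Fintype.card_subtype_compl, Fintype.card_subtype_eq, ← Nat.card_eq_fintype_card, hc.card]
        omega)
    obtain ⟨s, hs⟩ := hbij.2 ⟨q, hq⟩
    exact ⟨s.1, s.2, congrArg Subtype.val hs⟩
  -- `T` fixes another point
  obtain ⟨q₁, hq₁, hq₁fix⟩ :
      ∃ q : G ⧸ norS S, q ≠ base S ∧ ∀ g ∈ T, g • q = q := by
    obtain ⟨p, hp⟩ := h.exists_ne_base
    have hTp : ∀ g ∈ T, g • p ≠ base S := fun g hg e =>
      hp (smul_left_cancel g (e.trans (smul_base_iff.2 hg.2).symm))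
    choose c hc1 hc2 using fun g : T => hreg p (g.1 • p) hp (hTp g.1 g.2)
    letI : CommGroup (S : Subgroup G) :=
      { (inferInstance : Group (S : Subgroup G)) with
        mul_comm := fun a b => Subtype.ext (h.comm a.2 b.2) }
    haveI := Fintype.ofFinite T
    let φ : T → (S : Subgroup G) →* (S : Subgroup G) := fun g =>
      { toFun := fun s => ⟨g.1 * s.1 * g.1⁻¹, (Subgroup.mem_normalizer_iff.1 g.2.2 s.1).1 s.2⟩
        map_one' := Subtype.ext (by simp)
        map_mul' := fun a b => Subtype.ext (by simp [mul_assoc]) }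
    let C : T → (S : Subgroup G) := fun g => ⟨c g, hc1 g⟩
    have hcoc : ∀ g k : T, C (g * k) = φ g (C k) * C g := by
      intro g k
      refine Subtype.ext (hinj p hp _ _ (hc1 _) (mul_mem ((φ g (C k)).2) (hc1 g)) ?_)
      show c (g * k) • p = (g.1 * c k * g.1⁻¹ * c g) • p
      rw [hc2, mul_smul _ (c g), hc2, smul_smul,
        show g.1 * c k * g.1⁻¹ * g.1 = g.1 * c k by group, mul_smul, hc2, smul_smul]
      rfl
    have hprod : ∀ g : T, (φ g (∏ k, C k)) * C g = ∏ k, C k := by
      intro g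
      conv_rhs => rw [← Equiv.prod_comp (Equiv.mulLeft g) C]
      simp only [Equiv.coe_mulLeft, hcoc]
      rw [Finset.prod_mul_distrib, Finset.prod_const, Finset.card_univ, map_prod,
        ← Nat.card_eq_fintype_card]
      congr 1
      obtain ⟨m, hm⟩ := hTodd
      rw [hm, pow_succ, pow_mul, show C g ^ 2 = 1 from Subtype.ext (hc.sq _ (hc1 g)), one_pow,
        one_mul]
    refine ⟨(∏ k, C k).1 • p, hne p hp _ (∏ k, C k).2, fun g hg => ?_⟩
    have e := congrArg Subtype.val (hprod ⟨g, hg⟩)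
    conv_rhs => rw [← e]
    show g • (∏ k, C k).1 • p = (g * (∏ k, C k).1 * g⁻¹ * c ⟨g, hg⟩) • p
    rw [mul_smul _ (c _), hc2, smul_smul, smul_smul, inv_mul_cancel_right]
  -- and no third one
  have huniq : ∀ q : G ⧸ norS S, (∀ g ∈ T, g • q = q) → q = base S ∨ q = q₁ := by
    intro q hq
    by_contra hcon
    push Not at hcon
    obtain ⟨s, hs, hsq⟩ := hreg q₁ q hq₁ hcon.1
    have hs1 : s ≠ 1 := fun e => hcon.2 (by rw [← hsq, e, one_smul])
    have hs2 : orderOf s = 2 := H50.orderOf_eq_two (by rw [← pow_two]; exact hc.sq s hs) hs1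
    have hTA : ∀ g ∈ T, g ∈ cenS S := fun g hg => by
      refine h.mem_cenS_of_commute hs hs2 ?_
      have e := hinj q₁ hq₁ _ _ ((Subgroup.mem_normalizer_iff.1 hg.2 s).1 hs) hs (by
        rw [mul_smul, mul_smul, inv_smul_eq_iff.2 (hq₁fix g hg).symm, hsq, hq g hg])
      exact mul_inv_eq_iff_eq_mul.1 e
    have hsub : Subsingleton h.invs := ⟨fun a b => by
      obtain ⟨x, hx, hxa⟩ := hTtr a
      obtain ⟨y, hy, hyb⟩ := hTtr b
      refine Subtype.ext ?_
      rw [← hxa, ← hyb, ← Subgroup.mem_centralizer_iff.1 (hTA x hx) t ht,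
        ← Subgroup.mem_centralizer_iff.1 (hTA y hy) t ht, mul_inv_cancel_right,
        mul_inv_cancel_right]⟩
    have := Finite.card_le_one_iff_subsingleton.2 hsub
    have := h.invs_card.1
    omega
  -- pairing of the points
  have hXtr : ∀ p : G ⧸ norS S, ∃ x ∈ X, x • base S = p := by
    intro p
    obtain ⟨v, hv, hvp⟩ := H50.se_exists_fixer h.stronglyEmbedded p
    obtain ⟨x, hx, hxv⟩ := htr t v ht2 hv
    refine ⟨x, hx, H50.se_fix_unique h.stronglyEmbedded hv ?_ hvp⟩
    rw [← hxv, mul_smul, mul_smul, inv_smul_smul, smul_base_iff.2 (Subgroup.le_normalizer ht)]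
  choose x hx1 hx2 using hXtr
  let f : G ⧸ norS S → G ⧸ norS S := fun p => x p • q₁
  have hf : ∀ g ∈ X, f (g • base S) = g • q₁ := by
    intro g hg
    have hT' : g⁻¹ * x (g • base S) ∈ T := by
      refine Subgroup.mem_inf.2 ⟨mul_mem (inv_mem hg) (hx1 _), smul_base_iff.1 ?_⟩
      rw [mul_smul, hx2, inv_smul_smul]
    show x (g • base S) • q₁ = g • q₁
    rw [← inv_smul_eq_iff, smul_smul, hq₁fix _ hT']
  obtain ⟨y, hy, hyq⟩ : ∃ y ∈ X, y • base S = q₁ := ⟨x q₁, hx1 _, hx2 _⟩
  have hyq₁ : y • q₁ = base S := by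
    -- the stabiliser of `q₁` in `X` is `T`
    let T' : Subgroup G := T.map (MulAut.conj y).toMonoidHom
    have hle : T ≤ T' := by
      have hle' : T ≤ X ⊓ stabilizer G q₁ := fun g hg => ⟨hg.1, hq₁fix g hg⟩
      have heq : T' = X ⊓ stabilizer G q₁ := by
        ext g
        rw [H50.mem_map_conj, Subgroup.mem_inf, Subgroup.mem_inf, MulAction.mem_stabilizer_iff,
          ← smul_base_iff, mul_smul, mul_smul, inv_smul_eq_iff, hyq]
        refine and_congr_left fun _ => ⟨fun e => ?_, fun e => mul_mem (mul_mem (inv_mem hy) e) hy⟩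
        simpa [mul_assoc] using mul_mem (mul_mem hy e) (inv_mem hy)
      exact heq ▸ hle'
    have heq := Subgroup.eq_of_le_of_card_ge hle
      (Nat.card_congr (T.equivMapOfInjective _ (MulAut.conj y).injective).toEquiv).ge
    have hfix : ∀ g ∈ T, g • y • q₁ = y • q₁ := fun g hg => by
      rw [heq, H50.mem_map_conj] at hg
      have e := hq₁fix _ hg
      rw [mul_smul, mul_smul, inv_smul_eq_iff] at e
      exact e
    rcases huniq _ hfix with e | e
    · exact e
    · exact absurd (smul_left_cancel y (e.trans hyq.symm)) hq₁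
  have hinvo : ∀ p, f (f p) = p := fun p => by
    show f (x p • q₁) = p
    rw [← hyq, smul_smul, hf _ (mul_mem (hx1 p) hy), mul_smul, hyq₁, hx2]
  have hnofix : ∀ p, f p ≠ p := fun p e => hq₁ (smul_left_cancel (x p) (e.trans (hx2 p).symm))
  let σ : Equiv.Perm (G ⧸ norS S) := ⟨f, f, hinvo, hinvo⟩
  haveI : Fact (Nat.Prime 2) := ⟨Nat.prime_two⟩
  have hev : 2 ∣ Fintype.card (G ⧸ norS S) := by
    by_contra hd
    obtain ⟨w, hw⟩ := Equiv.Perm.exists_fixed_point_of_prime (p := 2) (n := 1) (σ := σ) hd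
      (by ext w; simp [pow_succ, σ, hinvo])
    exact hnofix w hw
  rw [← Nat.card_eq_fintype_card, hc.card] at hev
  have := ht2 ▸ Subgroup.orderOf_dvd_natCard _ ht
  omega

/-- A centraliser of an odd element of `C(S)` reaching out of `N(S)` is the whole group. -/
lemma Hyp.large_false (h : Hyp S) {o : G} (ho : o ∈ cenS S)
    (hout : ¬ Subgroup.centralizer ({o} : Set G) ≤ norS S)
    (htop : Subgroup.centralizer ({o} : Set G) ≠ ⊤)
    (ih : ∀ T : Sylow 2 (Subgroup.centralizer ({o} : Set G)), Hyp T → Core T) : False := by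
  classical
  set Y := Subgroup.centralizer ({o} : Set G)
  have hAY : cenS S ≤ Y := fun a ha => mem_cent_iff.2 (h.cen_comm ha ho)
  have hSY : (S : Subgroup G) ≤ Y := h.le_cenS.trans hAY
  let T : Sylow 2 Y := S.subtype hSY
  have hY : Hyp T := by
    refine ⟨fun hcyc => h.not_cyclic ?_, fun hn => hout fun y hy => ?_, fun t ht => ?_⟩
    · haveI : IsCyclic ↥((S : Subgroup G).subgroupOf Y) := hcyc
      exact isCyclic_of_injective (Subgroup.subgroupOfEquivOfLe hSY).symm.toMonoidHom
        (Subgroup.subgroupOfEquivOfLe hSY).symm.injective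
    · refine Subgroup.mem_normalizer_iff.2 fun s => ⟨fun hs => ?_, fun hs => ?_⟩
      · exact hn.conj_mem ⟨s, hSY hs⟩ hs ⟨y, hy⟩
      · have := hn.conj_mem ⟨y * s * y⁻¹, hSY hs⟩ hs ⟨y, hy⟩⁻¹
        simpa [T, Subgroup.mem_subgroupOf, mul_assoc] using this
    · haveI := h.abel (t : G) (by rw [Subgroup.orderOf_coe, ht])
      refine ⟨⟨fun a b => Subtype.ext (Subtype.ext ?_)⟩⟩
      show a.1.1 * b.1.1 = b.1.1 * a.1.1
      exact congrArg Subtype.val (mul_comm'
        (⟨a.1.1, mem_cent_iff.2 (congrArg Subtype.val (mem_cent_iff.1 a.2))⟩ :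
          Subgroup.centralizer ({(t : G)} : Set G))
        ⟨b.1.1, mem_cent_iff.2 (congrArg Subtype.val (mem_cent_iff.1 b.2))⟩)
  obtain ⟨t, ht, ht2⟩ := h.exists_involution
  have hconj : ∀ a b : G, a ∈ Y → b ∈ Y → orderOf a = 2 → orderOf b = 2 →
      ∃ y ∈ Y, y * a * y⁻¹ = b := by
    intro a b ha hb ha2 hb2
    obtain ⟨y, hy⟩ := hY.exists_conj (t := ⟨a, ha⟩) (v := ⟨b, hb⟩)
      (by rw [Subgroup.orderOf_mk, ha2]) (by rw [Subgroup.orderOf_mk, hb2])
    exact ⟨y.1, y.2, congrArg Subtype.val hy⟩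
  have hcent : ∀ a ∈ Y, orderOf a = 2 → Subgroup.centralizer ({a} : Set G) ≤ Y := by
    intro a ha ha2 c hc
    obtain ⟨y, hy, rfl⟩ := hconj t a (hSY ht) ha ht2 ha2
    have h1 : y⁻¹ * c * y ∈ Y := hAY (h.mem_cenS_of_commute ht ht2 (by
      calc y⁻¹ * c * y * t = y⁻¹ * (c * (y * t * y⁻¹)) * y := by group
        _ = y⁻¹ * (y * t * y⁻¹ * c) * y := by rw [mem_cent_iff.1 hc]
        _ = t * (y⁻¹ * c * y) := by group))
    simpa [mul_assoc] using mul_mem (mul_mem hy h1) (inv_mem hy)
  have heven : Even (Nat.card Y) :=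
    even_iff_two_dvd.2 (ht2 ▸ Subgroup.orderOf_dvd_natCard _ (hSY ht))
  have hSE : Cfsg.IsStronglyEmbedded Y := by
    rw [H28.isStronglyEmbedded_iff_mem htop heven]
    intro a ha ha2 g hg
    obtain ⟨y, hy, hyg⟩ := hconj a _ ha hg ha2 (by rw [orderOf_conj', ha2])
    have h1 : g * y ∈ Y := hcent a ha ha2 (mem_cent_iff.2 (by
      calc g * y * a = g * (y * a * y⁻¹) * y := by group
        _ = g * (g⁻¹ * a * g) * y := by rw [hyg]
        _ = a * (g * y) := by group))
    simpa [mul_assoc] using mul_mem h1 (inv_mem hy)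
  obtain ⟨v, hv, hvY⟩ : ∃ v : G, orderOf v = 2 ∧ v ∉ Y := by
    by_contra hcon
    push Not at hcon
    exact htop (h.eq_top_of_le hAY hcon)
  set D : Subgroup G := Y ⊓ Y.map (MulAut.conj v).toMonoidHom with hD
  have hle : D ≤ Y := inf_le_left
  refine hY.no_odd_transitive (ih T hY) (D.subgroupOf Y) ?_ fun a b ha hb => ?_
  · rw [Nat.card_congr (Subgroup.subgroupOfEquivOfLe hle).toEquiv]
    exact hSE.2.2 v hvY
  · obtain ⟨d, hd, hdab⟩ := (S1225.result Y hSE v hv hvY a b
      (by rw [Subgroup.orderOf_coe, ha]) a.2 (by rw [Subgroup.orderOf_coe, hb]) b.2).1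
    exact ⟨⟨d, hle hd⟩, hd, Subtype.ext hdab⟩

/-- The image of `S` modulo the centre. -/
noncomputable def quotSylow [Fact (Nat.Prime 2)] (S : Sylow 2 G) :
    Sylow 2 (G ⧸ Subgroup.center G) :=
  S.mapSurjective (QuotientGroup.mk'_surjective (Subgroup.center G))

/-- Facts about the quotient by the centre. -/
lemma Hyp.quotient_spec [Fact (Nat.Prime 2)] (h : Hyp S) :
    Hyp (quotSylow S) ∧
    (∀ x : G ⧸ Subgroup.center G, orderOf x = 2 →
      ∃ v : G, orderOf v = 2 ∧ QuotientGroup.mk' (Subgroup.center G) v = x) ∧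
    (∀ {c v : G}, orderOf v = 2 →
      QuotientGroup.mk' (Subgroup.center G) c * QuotientGroup.mk' (Subgroup.center G) v =
        QuotientGroup.mk' (Subgroup.center G) v * QuotientGroup.mk' (Subgroup.center G) c →
      c * v = v * c) ∧
    (∀ s ∈ S, s ∈ Subgroup.center G → s = 1) ∧
    (norS (quotSylow S)).comap (QuotientGroup.mk' (Subgroup.center G)) = norS S := by
  classical
  set Z := Subgroup.center G with hZdef
  set π := QuotientGroup.mk' Z with hπ
  have hπs : Function.Surjective π := QuotientGroup.mk'_surjective Z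
  have hker : ∀ {x : G}, π x = 1 ↔ x ∈ Z := fun {x} => QuotientGroup.eq_one_iff x
  have hT : ∀ x : G ⧸ Z, x ∈ quotSylow S ↔ ∃ s ∈ (S : Subgroup G), π s = x := fun x => Subgroup.mem_map
  have hsq : ∀ z ∈ Z, z * z = 1 → z = 1 := fun z hz e => eq_one_of_sq (h.center_spec hz).2 e
  have hSZ : ∀ s ∈ S, s ∈ Z → s = 1 := fun s hs hz => by
    obtain ⟨k, hk⟩ := S.2 ⟨s, hs⟩
    exact orderOf_eq_one_iff.1 (Nat.eq_one_of_dvd_coprimes
      (Nat.Coprime.pow_right k (Nat.coprime_two_right.2 (h.center_spec hz).2)) dvd_rfl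
      (orderOf_dvd_of_pow_eq_one (congrArg Subtype.val hk)))
  -- an involution is determined modulo the centre
  have huniq : ∀ a b : G, a * a = 1 → b * b = 1 → π a = π b → a = b := by
    intro a b ha hb e
    have hz : a⁻¹ * b ∈ Z := QuotientGroup.eq.1 e
    have e2 := Subgroup.mem_center_iff.1 hz a
    have hz2 : (a⁻¹ * b) * (a⁻¹ * b) = 1 := by
      calc (a⁻¹ * b) * (a⁻¹ * b) = a⁻¹ * (a⁻¹ * b * a) * (a⁻¹ * b) := by rw [← e2]; group
        _ = (a * a)⁻¹ * (b * b) := by group
        _ = 1 := by rw [ha, hb, inv_one, one_mul]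
    exact inv_mul_eq_one.1 (hsq _ hz hz2)
  have hlift : ∀ x : G ⧸ Z, orderOf x = 2 → ∃ v : G, orderOf v = 2 ∧ π v = x := by
    intro x hx
    obtain ⟨g, rfl⟩ := hπs x
    have hz : g ^ 2 ∈ Z := hker.1 (by rw [map_pow, ← hx, pow_orderOf_eq_one])
    obtain ⟨m, hm⟩ := (h.center_spec hz).2
    have hv : π (g ^ (2 * m + 1)) = π g := by
      rw [map_pow, pow_succ, pow_mul, ← hx, pow_orderOf_eq_one, one_pow, one_mul]
    refine ⟨g ^ (2 * m + 1), H50.orderOf_eq_two ?_ fun e => ?_, hv⟩
    · rw [← pow_two, ← pow_mul, mul_comm, pow_mul, ← hm, pow_orderOf_eq_one]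
    · rw [e, map_one] at hv
      rw [← hv, orderOf_one] at hx
      omega
  have hord : ∀ v : G, orderOf v = 2 → orderOf (π v) = 2 := fun v hv =>
    H50.orderOf_eq_two (by rw [← map_mul, H50.inv_mul_self hv, map_one]) fun e => by
      have hc := hker.1 e
      rw [hsq v hc (H50.inv_mul_self hv), orderOf_one] at hv
      omega
  have hcommv : ∀ {c v : G}, orderOf v = 2 → π c * π v = π v * π c → c * v = v * c := by
    intro c v hv e
    refine mul_inv_eq_iff_eq_mul.1 (huniq _ v ?_ (H50.inv_mul_self hv) ?_)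
    · calc c * v * c⁻¹ * (c * v * c⁻¹) = c * (v * v) * c⁻¹ := by group
        _ = 1 := by rw [H50.inv_mul_self hv]; group
    · rw [map_mul, map_mul, e, map_inv, mul_inv_cancel_right]
  have hmemS : ∀ {v : G}, v * v = 1 → π v ∈ (quotSylow S) → v ∈ S := by
    intro v hv hvT
    obtain ⟨s, hs, e⟩ := (hT _).1 hvT
    have hs2 : s * s = 1 := hSZ _ (mul_mem hs hs)
      (hker.1 (by rw [map_mul, e, ← map_mul, hv, map_one]))
    rwa [← huniq s v hs2 hv e]
  have hnor : (norS (quotSylow S)).comap π = norS S := by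
    obtain ⟨t, ht, ht2⟩ := h.exists_involution
    ext g
    constructor
    · intro hg
      refine (norS S).inv_mem_iff.1 (h.mem_norS ht ht2 ?_)
      rw [inv_inv]
      refine hmemS ?_ ?_
      · calc g * t * g⁻¹ * (g * t * g⁻¹) = g * (t * t) * g⁻¹ := by group
          _ = 1 := by rw [H50.inv_mul_self ht2]; group
      · rw [map_mul, map_mul, map_inv]
        exact (Subgroup.mem_normalizer_iff.1 hg (π t)).1 ((hT _).2 ⟨t, ht, rfl⟩)
    · intro hg
      exact Subgroup.le_normalizer_map π ⟨g, hg, rfl⟩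
  have hTh : Hyp (quotSylow S) := by
    refine ⟨fun hcyc => h.not_cyclic ?_, fun hn => ?_, fun x hx => ?_⟩
    · haveI : IsCyclic ↥((S : Subgroup G).map π) := hcyc
      refine isCyclic_of_injective (π.subgroupMap (S : Subgroup G)) ?_
      rw [injective_iff_map_eq_one]
      intro s hs
      exact Subtype.ext (hSZ s.1 s.2 (hker.1 (congrArg Subtype.val hs)))
    · refine h.stronglyEmbedded.1 ?_
      rw [← hnor, show norS (quotSylow S) = ⊤ from Subgroup.normalizer_eq_top_iff.2 hn, Subgroup.comap_top]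
    · obtain ⟨v, hv, rfl⟩ := hlift x hx
      haveI := h.abel v hv
      refine ⟨⟨fun a b => Subtype.ext ?_⟩⟩
      obtain ⟨a', ha'⟩ := hπs a.1
      obtain ⟨b', hb'⟩ := hπs b.1
      have hac := hcommv hv (c := a') (by rw [ha']; exact mem_cent_iff.1 a.2)
      have hbc := hcommv hv (c := b') (by rw [hb']; exact mem_cent_iff.1 b.2)
      show a.1 * b.1 = b.1 * a.1
      rw [← ha', ← hb', ← map_mul, ← map_mul]
      exact congrArg π (congrArg Subtype.val
        (mul_comm' (⟨a', mem_cent_iff.2 hac⟩ : Subgroup.centralizer ({v} : Set G))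
          ⟨b', mem_cent_iff.2 hbc⟩))
  exact ⟨hTh, hlift, hcommv, hSZ, hnor⟩

/-- Passing to the quotient by the centre. -/
lemma Hyp.core_of_quotient (h : Hyp S)
    (ih : ∀ T : Sylow 2 (G ⧸ Subgroup.center G), Hyp T → Core T) : Core S := by
  classical
  haveI : Fact (Nat.Prime 2) := ⟨Nat.prime_two⟩
  obtain ⟨hTh, -, hcommv, hSZ, hnor⟩ := h.quotient_spec
  set Z := Subgroup.center G
  set π := QuotientGroup.mk' Z with hπ
  have hπs : Function.Surjective π := QuotientGroup.mk'_surjective Z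
  have hker : ∀ {x : G}, π x = 1 ↔ x ∈ Z := fun {x} => QuotientGroup.eq_one_iff x
  have hT : ∀ x : G ⧸ Z, x ∈ quotSylow S ↔ ∃ s ∈ (S : Subgroup G), π s = x :=
    fun x => Subgroup.mem_map
  obtain ⟨hcen, hTsq, hcard⟩ := ih _ hTh
  refine ⟨fun a ha hodd => ?_, fun s hs => ?_, ?_⟩
  · have hā : π a ∈ Subgroup.center (G ⧸ Z) := by
      refine hcen _ (Subgroup.mem_centralizer_iff.2 fun x hx => ?_)
        (Odd.of_dvd_nat hodd (orderOf_map_dvd π a))
      obtain ⟨s, hs, rfl⟩ := (hT x).1 hx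
      rw [← map_mul, ← map_mul, Subgroup.mem_centralizer_iff.1 ha s hs]
    have key : Subgroup.centralizer ({a} : Set G) = ⊤ := h.eq_top_of_le
      (fun b hb => mem_cent_iff.2 (h.cen_comm hb ha))
      fun v hv => mem_cent_iff.2 (hcommv hv (Subgroup.mem_center_iff.1 hā (π v)).symm).symm
    exact Subgroup.mem_center_iff.2 fun g => mem_cent_iff.1 (key ▸ Subgroup.mem_top g)
  · refine hSZ _ (pow_mem hs 2) (hker.1 ?_)
    rw [map_pow, hTsq _ ((hT _).2 ⟨s, hs, rfl⟩)]
  · rw [← Subgroup.index_eq_card, ← hnor, Subgroup.index_comap_of_surjective _ hπs,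
      Subgroup.index_eq_card, hcard]
    congr 1
    refine (Nat.card_congr (Equiv.ofBijective (π.subgroupMap (S : Subgroup G))
      ⟨?_, π.subgroupMap_surjective _⟩)).symm
    rw [injective_iff_map_eq_one]
    intro s hs
    exact Subtype.ext (hSZ s.1 s.2 (hker.1 (congrArg Subtype.val hs)))

/-- The main structure theorem. -/
theorem core_aux.{u} : ∀ n : ℕ, ∀ {G : Type u} [Group G] [Finite G] (S : Sylow 2 G),
    Nat.card G = n → Hyp S → Core S := by
  intro n
  induction n using Nat.strong_induction_on with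
  | _ n ih =>
    intro G _ _ S hn h
    classical
    haveI : Fact (Nat.Prime 2) := ⟨Nat.prime_two⟩
    by_cases hZ : Subgroup.center G = ⊥
    · have hT : Tight S := by
        intro o ho ho1 _
        by_contra hout
        have htop : Subgroup.centralizer ({o} : Set G) ≠ ⊤ := fun e => ho1 (by
          have : o ∈ Subgroup.center G :=
            Subgroup.mem_center_iff.2 fun g => mem_cent_iff.1 (e ▸ Subgroup.mem_top g)
          rwa [hZ, Subgroup.mem_bot] at this)
        refine h.large_false ho hout htop fun T hT => ih _ ?_ T rfl hT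
        rw [← hn]
        refine lt_of_le_of_ne (Subgroup.card_le_card_group _) fun e =>
          htop (Subgroup.eq_top_of_card_eq _ e)
      obtain ⟨hsq, hcard⟩ := h.tight_result hT
      refine ⟨fun a ha hodd => ?_, fun s hs => hsq s (h.le_cenS hs), hcard⟩
      rw [eq_one_of_sq hodd (by rw [← pow_two, hsq a ha])]
      exact one_mem _
    · refine h.core_of_quotient fun T hT => ih _ ?_ T rfl hT
      rw [← hn, ← Subgroup.index_eq_card, ← Subgroup.card_mul_index (Subgroup.center G)]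
      have h1 : 1 < Nat.card (Subgroup.center G) :=
        (Subgroup.one_lt_card_iff_ne_bot _).2 hZ
      exact lt_mul_left (Nat.pos_of_ne_zero Subgroup.index_ne_zero_of_finite) h1

/-- The main structure theorem. -/
theorem Hyp.core (h : Hyp S) : Core S := core_aux _ S rfl h

end Cfsg.Agent.H7.ACA
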