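import Mathlib
import Cfsg.Agent.H7.AbelianCA.Core
import Cfsg.Agent.H50.InvolutionCAField
import Cfsg.Agent.H64.SL2Sylow
import Cfsg.Agent.H6.Basic

/-!
# Groups with abelian centralisers of involutions: `SL(2, 2^f) × A`
-/

set_option autoImplicit false

open scoped commutatorElement

namespace Cfsg.Agent.H7.ACA

variable {G : Type*} [Group G] [Finite G] {S : Sylow 2 G}

lemma Hyp.sq_center (h : Hyp S) {a : G} (ha : a ∈ cenS S) :
    a ^ 2 ∈ Subgroup.center G := by
  refine h.core.central _ (pow_mem ha 2) ?_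
  by_contra hev
  obtain ⟨j, hj⟩ := exists_pow_involution (Nat.not_odd_iff_even.1 hev)
  have hmem : a ^ j ∈ S := mem_of_pow_eq_one (cenS_le_norS S (pow_mem ha j)) (k := 2) (by
    have := pow_orderOf_eq_one ((a ^ 2) ^ j)
    rw [hj, ← pow_mul, ← pow_mul] at this
    rw [← pow_mul, ← this]
    congr 1
    ring)
  have h2 := h.core.sq _ hmem
  rw [← pow_mul, mul_comm, pow_mul] at h2
  rw [h2, orderOf_one] at hj
  omega

lemma Hyp.involutionCA [Fact (Nat.Prime 2)] (h : Hyp S) :
    H50.InvolutionCA (quotSylow S) := by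
  obtain ⟨hQ, hlift, hcomm, -, -⟩ := h.quotient_spec
  refine ⟨hQ.not_cyclic, hQ.not_normal, fun x hx => ⟨hQ.abel x hx, fun c hc => ?_⟩⟩
  obtain ⟨v, hv, rfl⟩ := hlift x hx
  obtain ⟨c', rfl⟩ := QuotientGroup.mk'_surjective (Subgroup.center G) c
  have hc' := hcomm hv (mem_cent_iff.1 hc)
  obtain ⟨t, ht, ht2⟩ := h.exists_involution
  obtain ⟨g, hg⟩ := h.exists_conj ht2 hv
  have hmem := h.sq_center (h.mem_cenS_of_commute ht ht2 (x := g⁻¹ * c' * g) (by
    calc g⁻¹ * c' * g * t = g⁻¹ * (c' * (g * t * g⁻¹)) * g := by group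
      _ = g⁻¹ * (g * t * g⁻¹ * c') * g := by rw [hg, hc']
      _ = t * (g⁻¹ * c' * g) := by group))
  rw [← map_pow]
  refine (QuotientGroup.eq_one_iff _).2 ?_
  have e : c' ^ 2 = g * (g⁻¹ * c' * g) ^ 2 * g⁻¹ := by rw [pow_two, pow_two]; group
  rw [e]
  exact (inferInstance : (Subgroup.center G).Normal).conj_mem _ hmem g

lemma Hyp.involution_mem_commutator (h : Hyp S) {v : G} (hv : orderOf v = 2) :
    v ∈ commutator G := by
  obtain ⟨hi, -⟩ := h.invs_card
  haveI : Nontrivial h.invs := Finite.one_lt_card_iff_nontrivial.1 (by omega)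
  obtain ⟨t, s, hts⟩ := exists_pair_ne h.invs
  have hw : orderOf (t.1 * s.1) = 2 := by
    refine H50.orderOf_eq_two ?_ fun e => hts (Subtype.ext ?_)
    · nth_rewrite 2 [h.comm (h.invs_mem t) (h.invs_mem s)]
      rw [show t.1 * s.1 * (s.1 * t.1) = t.1 * (s.1 * s.1) * t.1 by group,
        H50.inv_mul_self s.2.1, mul_one, H50.inv_mul_self t.2.1]
    · rw [← H50.inv_eq_self s.2.1]
      exact eq_inv_of_mul_eq_one_left e
  have hwc : t.1 * s.1 ∈ commutator G := by
    obtain ⟨g, hg⟩ := h.exists_conj t.2.1 s.2.1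
    have e : t.1 * s.1 = ⁅t.1, g⁆ := by
      rw [commutatorElement_def, H50.inv_eq_self t.2.1, ← hg]
      simp only [mul_assoc]
    rw [e, commutator_def]
    exact Subgroup.commutator_mem_commutator (Subgroup.mem_top _) (Subgroup.mem_top _)
  obtain ⟨g, rfl⟩ := h.exists_conj hw hv
  exact (inferInstance : (commutator G).Normal).conj_mem _ hwc g

/-- The structure of the group. -/
theorem Hyp.exists_iso (h : Hyp S) :
    ∃ (F : Type) (_ : Field F) (_ : Fintype F) (A : Type) (_ : CommGroup A) (_ : Finite A),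
      CharP F 2 ∧ Odd (Nat.card A) ∧
        Nonempty (G ≃* Matrix.SpecialLinearGroup (Fin 2) F × A) := by
  classical
  haveI : Fact (Nat.Prime 2) := ⟨Nat.prime_two⟩
  obtain ⟨F, hF, hFF, hFcard, ⟨e⟩⟩ := h.involutionCA.is_psl_two
  obtain ⟨hQ, -, -, hSZ, -⟩ := h.quotient_spec
  obtain ⟨f, hf⟩ := IsPGroup.iff_card.1 (quotSylow S).2
  have hfpos : f ≠ 0 := fun e0 => by
    have := h.involutionCA.four_le
    rw [hf, e0] at this
    norm_num at this
  have hFq : Fintype.card F = 2 ^ f := hFcard.trans hf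
  haveI hchar : CharP F 2 := charP_of_card_eq_prime_pow hFq
  -- `SL₂ = PSL₂`
  have hcen : Subgroup.center (Matrix.SpecialLinearGroup (Fin 2) F) = ⊥ := by
    refine Subgroup.card_eq_one.1 ?_
    rw [H6.card_center_sl2 hFq]
    refine Nat.prime_two.coprime_iff_not_dvd.2 fun hd => ?_
    have : 2 ∣ 2 ^ f := dvd_pow_self 2 hfpos
    have := Nat.one_le_two_pow (n := f)
    omega
  let π' := QuotientGroup.mk' (Subgroup.center (Matrix.SpecialLinearGroup (Fin 2) F))
  have hbij : Function.Bijective π' :=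
    ⟨(MonoidHom.ker_eq_bot_iff _).1 (by rw [QuotientGroup.ker_mk', hcen]),
      QuotientGroup.mk'_surjective _⟩
  let eSL : Matrix.SpecialLinearGroup (Fin 2) F ≃* Matrix.ProjectiveSpecialLinearGroup (Fin 2) F :=
    MulEquiv.ofBijective π' hbij
  set Z := Subgroup.center G with hZdef
  set π := QuotientGroup.mk' Z with hπdef
  -- the derived group complements the centre
  have hinf : ∀ z ∈ Z, z ∈ commutator G → z = 1 := by
    intro z hz hzc
    by_contra hne
    obtain ⟨p, hp, hdvd⟩ := Nat.exists_prime_and_dvd (n := orderOf z) fun e =>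
      hne (orderOf_eq_one_iff.1 e)
    haveI := Fact.mk hp
    have hp2 : p ≠ 2 := fun e => by
      subst e
      exact Nat.not_even_iff_odd.2 (h.center_spec hz).2 (even_iff_two_dvd.2 hdvd)
    obtain ⟨k, hk⟩ := hdvd
    have hord : orderOf (z ^ k) = p := by
      have hpos := orderOf_pos z
      have hk0 : k ≠ 0 := fun e => by rw [e, mul_zero] at hk; omega
      rw [orderOf_pow_of_dvd hk0 ⟨p, by rw [hk, mul_comm]⟩, hk, Nat.mul_div_cancel _ (by omega)]
    have hpz : IsPGroup p (Subgroup.zpowers (z ^ k)) :=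
      IsPGroup.of_card (n := 1) (by rw [Nat.card_zpowers, hord, pow_one])
    obtain ⟨P, hP⟩ := hpz.exists_le_sylow
    haveI : IsCyclic ((P : Subgroup G).map π) := by
      let R : Subgroup (Matrix.SpecialLinearGroup (Fin 2) F) :=
        ((P : Subgroup G).map π).map (e.trans eSL.symm).toMonoidHom
      have hR : IsCyclic R := H64.SL2.isCyclic_of_isPGroup (r := p) 2 hp2 hp2 R ((P.2.map π).map _)
      let eR := ((P : Subgroup G).map π).equivMapOfInjective
        (e.trans eSL.symm).toMonoidHom (e.trans eSL.symm).injective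
      exact isCyclic_of_injective eR.toMonoidHom eR.injective
    have hz1 := H64.mem_commutator_sylow_of_central P (pow_mem hz k) (pow_mem hzc k)
      (hP (Subgroup.mem_zpowers _))
    rw [H64.commutator_eq_bot_of_isCyclic_map (σ := π) (by rw [QuotientGroup.ker_mk'])
      (P : Subgroup G), Subgroup.mem_bot] at hz1
    rw [hz1, orderOf_one] at hord
    exact hp.ne_one hord.symm
  have hsup : commutator G ⊔ Z = ⊤ := by
    refine h.eq_top_of_le (fun a ha => ?_) fun v hv =>
      Subgroup.mem_sup_left (h.involution_mem_commutator hv)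
    have hc := h.sq_center ha
    obtain ⟨m, hm⟩ := (h.center_spec hc).2
    have h2 : (a ^ (2 * m + 1)) ^ 2 = 1 := by
      rw [← pow_mul, mul_comm, pow_mul, ← hm, pow_orderOf_eq_one]
    have h1 : a ^ (2 * m + 1) ∈ commutator G := by
      by_cases e1 : a ^ (2 * m + 1) = 1
      · rw [e1]; exact one_mem _
      · exact h.involution_mem_commutator (orderOf_eq_prime h2 e1)
    have e1 : a = a ^ (2 * m + 1) * ((a ^ 2) ^ m)⁻¹ := by
      rw [← pow_mul, pow_succ', mul_inv_cancel_right]
    rw [e1]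
    exact Subgroup.mul_mem_sup h1 (inv_mem (pow_mem hc m))
  let φ : commutator G × Z →* G := MonoidHom.noncommCoprod (commutator G).subtype Z.subtype
    fun x z => Subgroup.mem_center_iff.1 z.2 x.1
  have hφ : Function.Bijective φ := by
    refine ⟨(injective_iff_map_eq_one _).2 fun x hx => ?_, fun g => ?_⟩
    · have hx' : x.1.1 * x.2.1 = 1 := hx
      have e1 : x.2.1 = 1 := by
        refine hinf _ x.2.2 ?_
        rw [eq_inv_of_mul_eq_one_right hx']
        exact inv_mem x.1.2
      rw [e1, mul_one] at hx'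
      exact Prod.ext (Subtype.ext hx') (Subtype.ext e1)
    · obtain ⟨x, hx, z, hz, e1⟩ := Subgroup.mem_sup_of_normal_right.1
        (show g ∈ commutator G ⊔ Z by rw [hsup]; exact Subgroup.mem_top g)
      exact ⟨(⟨x, hx⟩, ⟨z, hz⟩), e1⟩
  have hψ : Function.Bijective (π.comp (commutator G).subtype) := by
    refine ⟨(injective_iff_map_eq_one _).2 fun x hx =>
      Subtype.ext (hinf _ ((QuotientGroup.eq_one_iff _).1 hx) x.2), fun y => ?_⟩
    obtain ⟨g, rfl⟩ := QuotientGroup.mk'_surjective Z y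
    obtain ⟨⟨x, z⟩, hxz⟩ := hφ.2 g
    refine ⟨x, ?_⟩
    have hxz' : x.1 * z.1 = g := hxz
    rw [← hxz', map_mul]
    exact (mul_eq_left.2 ((QuotientGroup.eq_one_iff _).2 z.2)).symm
  letI : CommGroup Z :=
    { (inferInstance : Group Z) with
      mul_comm := fun a b => Subtype.ext (Subgroup.mem_center_iff.1 b.2 a.1) }
  have hodd : Odd (Nat.card Z) := by
    by_contra hev
    obtain ⟨v, hv, hv2⟩ := H28.exists_involution_mem (Nat.not_odd_iff_even.1 hev)
    exact Nat.not_even_iff_odd.2 (h.center_spec hv).2 (by rw [hv2]; exact even_two)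
  let eA : {_i : Fin (Nat.card Z) // True} ≃ Z :=
    (Equiv.subtypeUnivEquiv fun _ => trivial).trans (Finite.equivFin Z).symm
  letI : CommGroup {_i : Fin (Nat.card Z) // True} := eA.commGroup
  refine ⟨F, hF, hFF, {_i : Fin (Nat.card Z) // True}, inferInstance, inferInstance, hchar,
    by rwa [Nat.card_congr eA], ⟨(MulEquiv.ofBijective φ hφ).symm.trans (MulEquiv.prodCongr
      ((MulEquiv.ofBijective _ hψ).trans (e.trans eSL.symm)) (Equiv.mulEquiv eA).symm)⟩⟩

end Cfsg.Agent.H7.ACA
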